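import Mathlib
import Cfsg.Agent.Lib.Grp.Primitive
import Cfsg.Agent.Lib.Grp.Basic
import Cfsg.Agent.Lib.Grp.Solvable

/-!
Dixon's bound: the cube of the order of a solvable permutation group of degree `n` is at most
`24 ^ (n - 1)`.
-/

namespace Cfsg.Agent.SqClass

universe u v

/-- The number of automorphisms of an elementary abelian group. -/
theorem card_mulAut_elem {M : Type*} [Group M] [Finite M] {r : ℕ} [hr : Fact r.Prime]
    (hc : ∀ a b : M, a * b = b * a) (he : ∀ a : M, a ^ r = 1) :
    ∃ k, Nat.card M = r ^ k ∧ Nat.card (MulAut M) = ∏ i : Fin k, (r ^ k - r ^ (i : ℕ)) := by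
  classical
  letI : CommGroup M := { (inferInstance : Group M) with mul_comm := hc }
  letI : Module (ZMod r) (Additive M) := AddCommGroup.zmodModule (n := r) fun x => he (Additive.toMul x)
  haveI : Module.Finite (ZMod r) (Additive M) := Module.Finite.of_finite
  obtain ⟨k, hk⟩ : ∃ k, k = Module.finrank (ZMod r) (Additive M) := ⟨_, rfl⟩
  let b := Module.finBasisOfFinrankEq (ZMod r) (Additive M) hk.symm
  refine ⟨k, ?_, ?_⟩
  · rw [hk, ← Nat.card_congr (Additive.ofMul (α := M)).symm,
      Module.natCard_eq_pow_finrank (K := ZMod r) (V := Additive M), Nat.card_eq_fintype_card, ZMod.card]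
  let e1 : MulAut M ≃ (Additive M ≃ₗ[ZMod r] Additive M) :=
    { toFun := fun f => (MulEquiv.toAdditive f).toLinearEquiv fun c x => ZMod.map_smul _ c x
      invFun := fun g => MulEquiv.toAdditive.symm g.toAddEquiv
      left_inv := fun f => MulEquiv.ext fun _ => rfl
      right_inv := fun g => LinearEquiv.ext fun _ => rfl }
  let e2 : (Additive M ≃ₗ[ZMod r] Additive M) ≃ GL (Fin k) (ZMod r) :=
    ({ toFun := fun g => b.equivFun.symm.trans (g.trans b.equivFun)
       invFun := fun g => b.equivFun.trans (g.trans b.equivFun.symm)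
       left_inv := fun g => LinearEquiv.ext fun x => by
         simp only [LinearEquiv.trans_apply, LinearEquiv.symm_apply_apply]
       right_inv := fun g => LinearEquiv.ext fun x => by
         simp only [LinearEquiv.trans_apply, LinearEquiv.apply_symm_apply] } :
      (Additive M ≃ₗ[ZMod r] Additive M) ≃ ((Fin k → ZMod r) ≃ₗ[ZMod r] (Fin k → ZMod r))).trans
      ((Matrix.GeneralLinearGroup.toLin.trans (LinearMap.GeneralLinearGroup.generalLinearEquiv _ _)).symm.toEquiv)
  rw [Nat.card_congr (e1.trans e2), Matrix.card_GL_field, ZMod.card]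

theorem cube_le_pow {n : ℕ} (hn : 1 ≤ n) (hn15 : n ≤ 15) {T : ℕ}
    (hT : (n * T) ^ 3 ≤ 24 ^ (n - 1)) {A : ℕ} (hA : A ≤ n * T) : A ^ 3 ≤ 24 ^ (n - 1) :=
  (Nat.pow_le_pow_left hA 3).trans hT

/-- The arithmetic of the primitive case. -/
theorem affine_bound {r k : ℕ} (hr : r.Prime) :
    (r ^ k * ∏ i : Fin k, (r ^ k - r ^ (i : ℕ))) ^ 3 ≤ 24 ^ (r ^ k - 1) := by
  have h2 := hr.two_le
  -- crude bound
  have hprod : ∏ i : Fin k, (r ^ k - r ^ (i : ℕ)) ≤ (r ^ k) ^ k := by
    have := Finset.prod_le_pow_card (Finset.univ : Finset (Fin k))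
      (fun i => r ^ k - r ^ (i : ℕ)) (r ^ k) (fun i _ => Nat.sub_le _ _)
    simpa using this
  rcases Nat.lt_or_ge k 2 with hk | hk
  · interval_cases k
    · simp
    · simp only [pow_one, Fin.prod_univ_one, Fin.val_zero, pow_zero]
      rcases Nat.lt_or_ge r 5 with h | h
      · interval_cases r
        · norm_num
        · norm_num
        · exact absurd hr (by norm_num)
      · have hle : (r * (r - 1)) ^ 3 ≤ r ^ 6 := by
          rw [show r ^ 6 = (r * r) ^ 3 by ring]
          gcongr
          omega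
        refine hle.trans ?_
        obtain ⟨j, rfl⟩ := Nat.exists_eq_add_of_le h
        clear hr h2 hle hprod h
        induction j with
        | zero => norm_num
        | succ j ih =>
          rw [show 5 + (j + 1) - 1 = (4 + j) + 1 by omega, pow_succ 24 (4 + j)]
          rw [show 5 + j - 1 = 4 + j by omega] at ih
          have h6 : (5 * (5 + (j + 1))) ^ 6 ≤ (6 * (5 + j)) ^ 6 := Nat.pow_le_pow_left (by omega) 6
          rw [mul_pow, mul_pow] at h6
          generalize (5 + (j + 1)) ^ 6 = y at h6 ⊢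
          generalize (5 + j) ^ 6 = x at h6 ih
          generalize 24 ^ (4 + j) = w at ih ⊢
          norm_num at h6
          omega
  have h4 : 4 ≤ r ^ k := le_trans (le_trans (by norm_num : 4 ≤ 2 ^ 2) (Nat.pow_le_pow_left h2 2))
    (Nat.pow_le_pow_right hr.pos hk)
  have hkn : 2 ^ k ≤ r ^ k := Nat.pow_le_pow_left h2 k
  by_cases hsmall : r ^ k < 16
  · have hk4 : k < 4 := by
      by_contra hh
      have := Nat.pow_le_pow_right (by norm_num : 0 < 2) (Nat.le_of_not_lt hh)
      omega
    have hr4 : r < 4 := by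
      by_contra hh
      have := Nat.pow_le_pow_right hr.pos hk
      nlinarith
    interval_cases k <;> interval_cases r <;> simp_all [Fin.prod_univ_succ] <;> norm_num
  · push Not at hsmall
    refine (Nat.pow_le_pow_left (Nat.mul_le_mul_left _ hprod) 3).trans ?_
    rw [← pow_succ', ← pow_mul]
    generalize r ^ k = N at hsmall hkn ⊢
    -- `N ^ (3 (k+1)) ≤ 24 ^ (N - 1)` as `2 ^ k ≤ N`
    obtain ⟨L, hL⟩ : ∃ L, Nat.log 2 N = L := ⟨_, rfl⟩
    have hkL : k ≤ L := hL ▸ Nat.le_log_of_pow_le (by norm_num) hkn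
    have hNlt : N < 2 ^ (L + 1) := hL ▸ Nat.lt_pow_succ_log_self (by norm_num) N
    have hLN : 2 ^ L ≤ N := hL ▸ Nat.pow_log_le_self 2 (by omega)
    have hL4 : 4 ≤ L := hL ▸ Nat.le_log_of_pow_le (by norm_num) hsmall
    have key : 3 * ((L + 1) * (L + 1)) ≤ 4 * (2 ^ L - 1) + 0 * L ∨ L = 4 := by
      rcases eq_or_lt_of_le hL4 with h | h
      · exact Or.inr h.symm
      · left
        clear hL hNlt hLN hkL hL4
        obtain ⟨j, rfl⟩ := Nat.exists_eq_add_of_le (show 5 ≤ L by omega)
        induction j with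
        | zero => norm_num
        | succ j ih =>
          have h1 : 2 ^ (5 + (j + 1)) = 2 * 2 ^ (5 + j) := by rw [← pow_succ']; rfl
          have h2 : 3 * ((5 + (j + 1) + 1) * (5 + (j + 1) + 1)) ≤ 2 * (3 * ((5 + j + 1) * (5 + j + 1))) := by
            nlinarith
          have h3 := ih (by omega)
          have : 1 ≤ 2 ^ (5 + j) := Nat.one_le_two_pow
          omega
    calc N ^ ((k + 1) * 3) ≤ N ^ ((L + 1) * 3) := Nat.pow_le_pow_right (by omega) (by omega)
      _ ≤ 24 ^ (N - 1) := by
        rcases key with key | rfl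
        · calc N ^ ((L + 1) * 3) ≤ (2 ^ (L + 1)) ^ ((L + 1) * 3) := Nat.pow_le_pow_left hNlt.le _
            _ = 2 ^ (3 * ((L + 1) * (L + 1))) := by rw [← pow_mul]; congr 1; ring
            _ ≤ 2 ^ (4 * (N - 1)) := Nat.pow_le_pow_right (by norm_num) (by omega)
            _ = 16 ^ (N - 1) := by rw [pow_mul]; norm_num
            _ ≤ _ := Nat.pow_le_pow_left (by norm_num) _
        · rcases Nat.lt_or_ge N 18 with h18 | h18
          · interval_cases N <;> norm_num
          · calc N ^ ((4 + 1) * 3) ≤ (2 ^ 5) ^ 15 := Nat.pow_le_pow_left hNlt.le _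
              _ ≤ 24 ^ 17 := by norm_num
              _ ≤ 24 ^ (N - 1) := Nat.pow_le_pow_right (by norm_num) (by omega)

section Dixon

open MulAction
open scoped Pointwise

/-- The induction hypothesis. -/
def PermHyp (n : ℕ) : Prop :=
  ∀ (α : Type u) [Finite α] (S : Subgroup (Equiv.Perm α)), Group.IsSolvable S → Nat.card α < n →
    Nat.card S ^ 3 ≤ 24 ^ (Nat.card α - 1)

variable {G : Type v} [Group G] {α : Type u} [Finite α] [MulAction G α]

/-- The restriction to an invariant set. -/
def restrictHom (s : Set α) (hs : ∀ (g : G) (x : α), g • x ∈ s ↔ x ∈ s) : G →* Equiv.Perm s where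
  toFun g := (MulAction.toPerm g).subtypePerm fun x => hs g x
  map_one' := Equiv.ext fun x => Subtype.ext (one_smul G (x : α))
  map_mul' g h := Equiv.ext fun x => Subtype.ext (mul_smul g h (x : α))

omit [Finite α] in
theorem restrictHom_apply (s : Set α) (hs : ∀ (g : G) (x : α), g • x ∈ s ↔ x ∈ s) (g : G) (x : s) :
    ((restrictHom s hs g x : s) : α) = g • (x : α) := rfl

theorem cube_range_le {β : Type u} [Finite β] [Group.IsSolvable G] {n : ℕ} (IH : PermHyp.{u} n)
    (f : G →* Equiv.Perm β) (hβ : Nat.card β < n) :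
    Nat.card f.range ^ 3 ≤ 24 ^ (Nat.card β - 1) :=
  IH β f.range (Group.isSolvable_of_surjective f.rangeRestrict_surjective) hβ

variable [Finite G] [Group.IsSolvable G] [FaithfulSMul G α]

theorem intransitive_bound {n : ℕ} (IH : PermHyp.{u} n) (hn : Nat.card α ≤ n)
    (h : ¬ IsPretransitive G α) : Nat.card G ^ 3 ≤ 24 ^ (Nat.card α - 1) := by
  classical
  obtain ⟨x, y, hxy⟩ : ∃ x y : α, ∀ g : G, g • x ≠ y := by
    by_contra hc
    push Not at hc
    exact h ⟨hc⟩
  set s := orbit G x
  have hs : ∀ (g : G) (z : α), g • z ∈ s ↔ z ∈ s := fun g z => by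
    constructor
    · intro hz; simpa using mem_orbit_of_mem_orbit g⁻¹ hz
    · exact fun hz => mem_orbit_of_mem_orbit g hz
  have hsc : ∀ (g : G) (z : α), g • z ∈ sᶜ ↔ z ∈ sᶜ := fun g z => not_congr (hs g z)
  let f := (restrictHom s hs).rangeRestrict.prod (restrictHom sᶜ hsc).rangeRestrict
  have hf : Function.Injective f := by
    rw [injective_iff_map_eq_one]
    intro g hg
    refine eq_of_smul_eq_smul fun z : α => ?_
    rw [one_smul]
    by_cases hz : z ∈ s
    · have := congrArg (fun p => ((p.1 : Equiv.Perm s) ⟨z, hz⟩ : α)) hg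
      exact this
    · have := congrArg (fun p => ((p.2 : Equiv.Perm (sᶜ : Set α)) ⟨z, hz⟩ : α)) hg
      exact this
  have hcard : Nat.card s + Nat.card (sᶜ : Set α) = Nat.card α := Set.ncard_add_ncard_compl s
  haveI : Nonempty s := ⟨⟨x, mem_orbit_self x⟩⟩
  haveI : Nonempty (sᶜ : Set α) := ⟨⟨y, fun ⟨g, hg⟩ => hxy g hg⟩⟩
  have h1 : 0 < Nat.card s := Nat.card_pos
  have h2 : 0 < Nat.card (sᶜ : Set α) := Nat.card_pos
  calc Nat.card G ^ 3
      ≤ (Nat.card (restrictHom s hs).range * Nat.card (restrictHom sᶜ hsc).range) ^ 3 :=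
        Nat.pow_le_pow_left ((Nat.card_le_card_of_injective f hf).trans_eq (Nat.card_prod _ _)) 3
    _ ≤ 24 ^ (Nat.card s - 1) * 24 ^ (Nat.card (sᶜ : Set α) - 1) := by
        rw [mul_pow]
        exact Nat.mul_le_mul (cube_range_le IH _ (by omega)) (cube_range_le IH _ (by omega))
    _ ≤ _ := by
        rw [← pow_add]
        exact Nat.pow_le_pow_right (by norm_num) (by omega)

theorem imprimitive_bound [IsPretransitive G α] {n : ℕ} (IH : PermHyp.{u} n) (hn : Nat.card α ≤ n)
    {B : Set α} (hB : IsBlock G B) (h2 : 2 ≤ B.ncard) (hne : B ≠ Set.univ) :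
    Nat.card G ^ 3 ≤ 24 ^ (Nat.card α - 1) := by
  classical
  obtain ⟨b₀, hb₀⟩ : B.Nonempty := Set.nonempty_of_ncard_ne_zero (by omega)
  have hmul : B.ncard * Nat.card (orbit G B) = Nat.card α := hB.ncard_block_mul_ncard_orbit_eq ⟨b₀, hb₀⟩
  have hBlt : B.ncard < Nat.card α := by
    rw [← Set.ncard_univ α]
    exact Set.ncard_lt_ncard (Set.ssubset_univ_iff.mpr hne)
  have hm2 : 2 ≤ Nat.card (orbit G B) := by
    by_contra h
    have : Nat.card (orbit G B) ≤ 1 := by omega
    have := Nat.mul_le_mul_left B.ncard this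
    omega
  haveI : Finite (orbit G B) := Finite.of_surjective (fun g : G => (⟨g • B, g, rfl⟩ : orbit G B))
    (by rintro ⟨_, g, rfl⟩; exact ⟨g, rfl⟩)
  haveI := Fintype.ofFinite (orbit G B)
  let φ := MulAction.toPermHom G (orbit G B)
  have hfix : ∀ (k : φ.ker) (C : orbit G B) (z : α), k • z ∈ (C : Set α) ↔ z ∈ (C : Set α) := by
    intro k C z
    have hk : (k : G) • (C : Set α) = C :=
      congrArg Subtype.val (Equiv.Perm.ext_iff.mp (MonoidHom.mem_ker.mp k.2) C)
    nth_rewrite 1 [← hk]
    exact Set.smul_mem_smul_set_iff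
  haveI : Group.IsSolvable φ.ker := inferInstance
  let ψ : φ.ker →* ((C : orbit G B) → (restrictHom (C : Set α) (fun k z => hfix k C z)).range) :=
    MonoidHom.mk' (fun k C => (restrictHom (C : Set α) (fun k z => hfix k C z)).rangeRestrict k)
      fun a b => funext fun C => map_mul _ a b
  have hψ : Function.Injective ψ := by
    rw [injective_iff_map_eq_one]
    intro k hk
    refine Subtype.ext (eq_of_smul_eq_smul fun z : α => ?_)
    obtain ⟨g, rfl⟩ := exists_smul_eq G b₀ z
    have hmem : g • b₀ ∈ g • B := Set.smul_mem_smul_set hb₀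
    have := congrArg (fun F => ((F ⟨g • B, g, rfl⟩ :
      Equiv.Perm ↥(g • B)) ⟨g • b₀, hmem⟩ : α)) hk
    rw [OneMemClass.coe_one, one_smul]
    exact this
  have hker : Nat.card φ.ker ^ 3 ≤ 24 ^ (Nat.card (orbit G B) * (B.ncard - 1)) := by
    refine (Nat.pow_le_pow_left ((Nat.card_le_card_of_injective ψ hψ).trans_eq Nat.card_pi) 3).trans ?_
    rw [← Finset.prod_pow, Nat.card_eq_fintype_card, pow_mul']
    refine (Finset.prod_le_pow_card _ _ _ fun C _ => ?_).trans_eq (by rw [Finset.card_univ])
    obtain ⟨g, hg⟩ := C.2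
    have hC : Nat.card (C : Set α) = B.ncard := by
      rw [← hg]
      exact Set.ncard_image_of_injective B (MulAction.injective g)
    have := cube_range_le IH (restrictHom (C : Set α) (fun k z => hfix k C z)) (by omega)
    rwa [hC] at this
  have hrange : Nat.card φ.range ^ 3 ≤ 24 ^ (Nat.card (orbit G B) - 1) := by
    have e : orbit G B ≃ Fin (Nat.card (orbit G B)) := Finite.equivFin _
    let f := (e.trans Equiv.ulift.{u}.symm).permCongrHom.toMonoidHom.comp φ
    have h := cube_range_le IH f (by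
      rw [Nat.card_congr Equiv.ulift, Nat.card_fin]
      calc Nat.card (orbit G B) < 2 * Nat.card (orbit G B) := by omega
        _ ≤ B.ncard * Nat.card (orbit G B) := Nat.mul_le_mul_right _ h2
        _ ≤ n := hmul.trans_le hn)
    rw [Nat.card_congr Equiv.ulift, Nat.card_fin, MonoidHom.range_comp] at h
    rwa [Subgroup.card_map_of_injective (Equiv.permCongrHom _).injective] at h
  rw [← φ.ker.card_mul_index, Subgroup.index_ker, mul_pow]
  refine (Nat.mul_le_mul hker hrange).trans ?_
  rw [← pow_add]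
  refine Nat.pow_le_pow_right (by norm_num) ?_
  rw [Nat.mul_sub, mul_one, mul_comm (Nat.card (orbit G B)) B.ncard, hmul]
  have : Nat.card (orbit G B) ≤ Nat.card α := hmul ▸ Nat.le_mul_of_pos_left _ (by omega)
  omega

theorem primitive_bound (hprim : IsPreprimitive G α) (h2 : 2 ≤ Nat.card α) :
    Nat.card G ^ 3 ≤ 24 ^ (Nat.card α - 1) := by
  classical
  haveI : Nonempty α := (Nat.card_pos_iff.mp (by omega)).1
  obtain ⟨ω⟩ := ‹Nonempty α›
  haveI := hprim.toIsPretransitive
  haveI : Nontrivial G := by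
    by_contra h
    rw [not_nontrivial_iff_subsingleton] at h
    haveI : Subsingleton α := ⟨fun a b => by
      obtain ⟨g, rfl⟩ := exists_smul_eq G a b
      rw [Subsingleton.elim g 1, one_smul]⟩
    have := Finite.card_le_one_iff_subsingleton.mpr ‹Subsingleton α›
    omega
  obtain ⟨M, ⟨hMn, hM0⟩, hmin⟩ :=
    ({K : Subgroup G | K.Normal ∧ K ≠ ⊥}).toFinite.exists_minimal ⟨⊤, inferInstance, top_ne_bot⟩
  haveI := hMn
  have hmin' : ∀ K : Subgroup G, K.Normal → K ≤ M → K = ⊥ ∨ K = M := fun K hK hKM => by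
    by_cases h0 : K = ⊥
    · exact Or.inl h0
    · exact Or.inr (le_antisymm hKM (hmin ⟨hK, h0⟩ hKM))
  obtain ⟨hab, r, hr, hexp⟩ := Grp.minimal_normal_solvable inferInstance hM0 hmin'
  obtain ⟨h1, h2', htr, h4, -⟩ := Grp.solvable_primitive hprim M hM0 hmin' ω
  set H := stabilizer G ω
  have hidx : H.index = Nat.card α := index_stabilizer_of_transitive G ω
  have hMα : Nat.card M = Nat.card α := by
    haveI := htr
    rw [← index_stabilizer_of_transitive M ω]
    have e : stabilizer M ω = ⊥ := by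
      rw [eq_bot_iff]
      intro m hm
      have : (m : G) ∈ M ⊓ H := ⟨m.2, hm⟩
      rw [h1, Subgroup.mem_bot] at this
      exact Subgroup.mem_bot.mpr (Subtype.ext this)
    rw [e, Subgroup.index_bot]
  let c : H →* MulAut M := (MulAut.conjNormal : G →* MulAut M).comp H.subtype
  have hc : Function.Injective c := by
    rw [injective_iff_map_eq_one]
    intro h hh
    have hmem : (h : G) ∈ H ⊓ Subgroup.centralizer (M : Set G) := by
      refine ⟨h.2, Subgroup.mem_centralizer_iff.mpr fun m hm => ?_⟩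
      have e : (h : G) * m * (h : G)⁻¹ = m := by
        have := congrArg (fun f : MulAut M => ((f ⟨m, hm⟩ : M) : G)) hh
        simpa [c, MulAut.conjNormal_apply] using this
      exact (mul_inv_eq_iff_eq_mul.mp e).symm
    rw [h4, Subgroup.mem_bot] at hmem
    exact Subtype.ext hmem
  haveI := Fact.mk hr
  obtain ⟨k, hk, haut⟩ := card_mulAut_elem (M := M) (r := r) (fun a b => mul_comm' a b)
    (fun a => Subtype.ext (hexp a a.2))
  rw [← H.card_mul_index, hidx, ← hMα, hk, mul_comm]
  refine (Nat.pow_le_pow_left (Nat.mul_le_mul_left _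
    ((Nat.card_le_card_of_injective c hc).trans_eq haut)) 3).trans ?_
  exact affine_bound hr

end Dixon

/-- Dixon's bound. -/
theorem permHyp : ∀ n, PermHyp.{u} n := by
  intro n
  induction n with
  | zero => intro α _ S _ h; omega
  | succ n ih =>
    intro α _ S hS hlt
    haveI := hS
    rcases Nat.lt_or_ge (Nat.card α) 2 with h2 | h2
    · haveI : Subsingleton α := Finite.card_le_one_iff_subsingleton.mp (by omega)
      rw [Nat.card_unique, one_pow]
      exact Nat.one_le_pow _ _ (by norm_num)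
    by_cases htr : MulAction.IsPretransitive S α
    · by_cases hprim : MulAction.IsPreprimitive S α
      · exact primitive_bound hprim h2
      · obtain ⟨B, hB, hBt⟩ : ∃ B : Set α, MulAction.IsBlock S B ∧ ¬ MulAction.IsTrivialBlock B := by
          by_contra hc
          push Not at hc
          exact hprim { htr with isTrivialBlock_of_isBlock := fun {B} h => hc B h }
        rw [MulAction.IsTrivialBlock, not_or] at hBt
        haveI := htr
        refine imprimitive_bound ih (by omega) hB ?_ hBt.2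
        by_contra h
        exact hBt.1 (Set.ncard_le_one_iff_subsingleton.mp (by omega))
    · exact intransitive_bound ih (by omega) htr

theorem dixon {α : Type u} [Finite α] (S : Subgroup (Equiv.Perm α)) (hS : Group.IsSolvable S) :
    Nat.card S ^ 3 ≤ 24 ^ (Nat.card α - 1) :=
  permHyp _ α S hS (Nat.lt_succ_self _)

end Cfsg.Agent.SqClass
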