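import Cfsg.Agent.Lib.Grp.SqClass.SmallBounds
import Cfsg.Agent.Lib.Grp.SqClass.SymFour
import Cfsg.Agent.S2325

/-!
# Commuting probability of primitive solvable linear groups
-/

set_option autoImplicit false
set_option linter.style.haveILetI false

universe u

namespace Cfsg.Agent.SqClass

open scoped commutatorElement
open BaseTwo (IsInv IsIrr IsCR autAdd SemiData prime_dvd_card_values)

/-- The bound for primitive groups of dimension `b`. -/
def PrimBound (p b C : ℕ) : Prop :=
  (b = 1 ∧ C ≤ 1) ∨ (b = 2 ∧ C ≤ 6) ∨ (b = 3 ∧ (C ≤ 24 ∨ (C ≤ 72 ∧ 13 ≤ p))) ∨ (b = 4 ∧ C ≤ 720) ∨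
    (b = 5 ∧ C ≤ 3000) ∨ (b = 6 ∧ C ≤ 10368) ∨ (b = 7 ∧ C ≤ 117649) ∨ (8 ≤ b ∧ 5 * C ≤ b ^ 8)

section Layer

variable {A V K : Type u} [Group A] [Finite A] [AddCommGroup V] [Finite V] [Nontrivial V]
  [DistribMulAction A V] [FaithfulSMul A V] [Field K] [Finite K] [Module K V] {Z : Subgroup A}
  [Z.Normal] {D : SemiData A V K Z}

instance (L : LayerData D) : CommGroup L.W := L.grp
instance (L : LayerData D) : Finite L.W := L.fin

/-- The image of the centraliser on the layer. -/
abbrev LayerData.S (L : LayerData D) : Subgroup (MulAut L.W) :=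
  (Subgroup.centralizer (Z : Set A)).map L.φ

/-- The scalars inside their centraliser. -/
abbrev scalarsIn (Z : Subgroup A) : Subgroup ↥(Subgroup.centralizer (Z : Set A)) :=
  Z.subgroupOf (Subgroup.centralizer (Z : Set A))

omit [Finite A] [Z.Normal] in
theorem scalarsIn_le_center : scalarsIn Z ≤ Subgroup.center ↥(Subgroup.centralizer (Z : Set A)) :=
  fun z hz => Subgroup.mem_center_iff.mpr fun g =>
    Subtype.ext (Subgroup.mem_centralizer_iff.mp g.2 (z : A) hz).symm

variable (L : LayerData D)

include L in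
theorem LayerData.card_scalarsIn : Nat.card (scalarsIn Z) = Nat.card Z :=
  Nat.card_congr (Subgroup.subgroupOfEquivOfLe (L.Z_lt.le.trans L.M_le)).toEquiv

theorem LayerData.card_centralizer : Nat.card (Subgroup.centralizer (Z : Set A)) =
    Nat.card Z * Nat.card L.W * Nat.card L.S := by
  let ψ : ↥(Subgroup.centralizer (Z : Set A)) →* MulAut L.W := L.φ.comp (Subgroup.subtype _)
  have hk : ψ.ker = L.M.subgroupOf (Subgroup.centralizer (Z : Set A)) := by
    ext g
    rw [MonoidHom.mem_ker, Subgroup.mem_subgroupOf]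
    exact L.ker g g.2
  rw [← ψ.ker.card_mul_index, Subgroup.index_ker, hk,
    Nat.card_congr (Subgroup.subgroupOfEquivOfLe L.M_le).toEquiv, L.card_M, MonoidHom.range_comp,
    Subgroup.range_subtype]

theorem LayerData.scalarsIn_index : (scalarsIn Z).index = Nat.card L.W * Nat.card L.S := by
  have h := (scalarsIn Z).card_mul_index
  rw [L.card_scalarsIn, L.card_centralizer, mul_assoc] at h
  exact Nat.eq_of_mul_eq_mul_left Nat.card_pos h

theorem LayerData.one_lt_card : 1 < Nat.card L.W := by
  by_contra h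
  have e : Nat.card L.W = 1 := by
    have : 0 < Nat.card L.W := Nat.card_pos
    omega
  have := L.card_M
  rw [e, mul_one] at this
  exact L.Z_lt.ne (Subgroup.eq_of_le_of_card_ge L.Z_lt.le this.le)

theorem LayerData.solvable_range (hsol : Group.IsSolvable A) : Group.IsSolvable L.φ.range := by
  haveI := hsol
  exact Group.isSolvable_of_surjective L.φ.rangeRestrict_surjective

theorem LayerData.card_S_le_range : Nat.card L.S ≤ Nat.card L.φ.range :=
  Subgroup.card_le_of_le (Subgroup.map_le_range L.φ _)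

theorem LayerData.five (hsol : Group.IsSolvable A) : 5 * Nat.card L.S ≤ Nat.card L.W ^ 3 := by
  haveI := L.solvable_range hsol
  letI := autAdd L.φ.range
  haveI : FaithfulSMul L.φ.range (Additive L.W) := ⟨fun {g h} hgh => Subtype.ext (MulEquiv.ext fun w =>
    Additive.ofMul.injective (hgh (Additive.ofMul w)))⟩
  haveI : Nontrivial L.W := Finite.one_lt_card_iff_nontrivial.mp L.one_lt_card
  have h := five_bound (A := L.φ.range) (V := Additive L.W) L.cr
  rw [Nat.card_congr (Additive.ofMul (α := L.W)).symm] at h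
  exact le_trans (Nat.mul_le_mul_left 5 L.card_S_le_range) h

theorem LayerData.exp_prime {r : ℕ} (hr : r.Prime) (hW : Nat.card L.W = r * r) :
    ∀ w : L.W, w ^ r = 1 := fun w =>
  pow_prime_eq_one_of_cr L.cr hr (hW ▸ pow_card_eq_one')

theorem LayerData.exists_SL {r : ℕ} [Fact r.Prime] (hW : Nat.card L.W = r * r) :
    ∃ f : L.S →* Matrix.SpecialLinearGroup (Fin 2) (ZMod r), Function.Injective f :=
  exists_hom_SL L.b L.alt L.nd hW (L.exp_prime Fact.out hW) L.S (by
    rintro _ ⟨g, hg, rfl⟩
    exact L.pres g hg)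

theorem LayerData.card_S_sixteen (hsol : Group.IsSolvable A) (hW : Nat.card L.W = 16) :
    Nat.card L.S ≤ 90 := by
  have h1 : ∀ w : L.W, w ^ 16 = 1 := fun w => hW ▸ pow_card_eq_one'
  have h2 : ∀ w : L.W, w ^ 2 = 1 := fun w => by
    have e8 : ∀ x : L.W, x ^ 8 = 1 := fun x => by
      have := pow_prime_eq_one_of_cr L.cr Nat.prime_two (x := x ^ 4) (by rw [← pow_mul]; exact h1 x)
      rw [← pow_mul] at this
      exact this
    have e4 : ∀ x : L.W, x ^ 4 = 1 := fun x => by
      have := pow_prime_eq_one_of_cr L.cr Nat.prime_two (x := x ^ 2) (by rw [← pow_mul]; exact e8 x)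
      rw [← pow_mul] at this
      exact this
    exact pow_prime_eq_one_of_cr L.cr Nat.prime_two (e4 w)
  haveI := L.solvable_range hsol
  letI := autAdd L.φ.range
  haveI : FaithfulSMul L.φ.range (Additive L.W) := ⟨fun {g h} hgh => Subtype.ext (MulEquiv.ext fun w =>
    Additive.ofMul.injective (hgh (Additive.ofMul w)))⟩
  exact L.card_S_le_range.trans (card_le_ninety (A := L.φ.range) (V := Additive L.W) L.cr
    ((Nat.card_congr (Additive.ofMul (α := L.W)).symm).trans hW) fun x => h2 (Additive.toMul x))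

theorem LayerData.card_S_thirtySix (hW : Nat.card L.W = 36) : Nat.card L.S ≤ 288 := by
  have h1 : ∀ w : L.W, w ^ 36 = 1 := fun w => hW ▸ pow_card_eq_one'
  refine (Subgroup.card_le_card_group _).trans (card_le_thirtySix hW fun w => ?_)
  have e : ∀ x : L.W, x ^ 18 = 1 := fun x => by
    have := pow_prime_eq_one_of_cr L.cr Nat.prime_two (x := x ^ 9) (by rw [← pow_mul]; exact h1 x)
    rw [← pow_mul] at this
    exact this
  have := pow_prime_eq_one_of_cr L.cr Nat.prime_three (x := w ^ 2) (by rw [← pow_mul]; exact e w)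
  rw [← pow_mul] at this
  exact this

include L in
/-- Counting classes of the centraliser with the determinant. -/
theorem LayerData.classes_bound {b : ℕ} (hb : Module.finrank K V = b) :
    Nat.card Z * (b + (Nat.card (ConjClasses (↥(Subgroup.centralizer (Z : Set A)) ⧸ scalarsIn Z)) - 1)) ≤
      b * Nat.card (ConjClasses (Subgroup.centralizer (Z : Set A))) := by
  classical
  have hb0 : 0 < b := by
    haveI : FiniteDimensional K V := Module.Finite.of_finite
    rw [← hb]
    exact Module.finrank_pos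
  let C := Subgroup.centralizer (Z : Set A)
  let lin : C →* (V →ₗ[K] V) :=
    { toFun := fun g =>
        { toFun := fun v => (g : A) • v
          map_add' := smul_add (g : A)
          map_smul' := fun k v => D.linear g.2 k v }
      map_one' := LinearMap.ext fun v => one_smul A v
      map_mul' := fun g h => LinearMap.ext fun v => mul_smul (g : A) h v }
  let δ : C →* Kˣ := ((LinearMap.det : (V →ₗ[K] V) →* K).comp lin).toHomUnits
  rw [← L.card_scalarsIn]
  refine card_mul_classes_quotient_le _ scalarsIn_le_center δ ?_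
  haveI := Fintype.ofFinite K
  refine (Nat.card_le_card_of_injective (β := {u : Kˣ // u ^ b = 1})
    (fun z => ⟨D.ι ⟨((z.1 : C) : A), z.1.2⟩, ?_⟩) ?_).trans ?_
  · have h := congrArg Units.val z.2
    have e : lin (z.1 : C) = (D.ι ⟨((z.1 : C) : A), z.1.2⟩ : K) • LinearMap.id :=
      LinearMap.ext fun v => D.scalar ⟨((z.1 : C) : A), z.1.2⟩ v
    change LinearMap.det (lin (z.1 : C)) = 1 at h
    rw [e, LinearMap.det_smul, LinearMap.det_id, mul_one, hb] at h
    exact Units.ext (by rw [Units.val_pow_eq_pow_val]; exact h)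
  · intro z z' h
    have := congrArg Subtype.val (D.ι_injective (congrArg Subtype.val h))
    exact Subtype.ext (Subtype.ext (Subtype.ext this))
  · rw [Nat.card_eq_fintype_card, Fintype.card_subtype]
    exact IsCyclic.card_pow_eq_one_le hb0

/-- The extension of degree two with quotient the symmetric group of degree four. -/
theorem LayerData.four_mul_le (hW : Nat.card L.W = 4) (hS : Nat.card L.S = 6) :
    4 * Nat.card Z ≤ Nat.card (ConjClasses (Subgroup.centralizer (Z : Set A))) := by
  have hQ : Nat.card (↥(Subgroup.centralizer (Z : Set A)) ⧸ scalarsIn Z) = 24 := by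
    rw [← Subgroup.index_eq_card, L.scalarsIn_index, hW, hS]
  haveI := L.normal
  set C := Subgroup.centralizer (Z : Set A)
  let mk := QuotientGroup.mk' (scalarsIn Z)
  let N := (L.M.subgroupOf C).map mk
  haveI : N.Normal := Subgroup.Normal.map inferInstance _ (QuotientGroup.mk'_surjective _)
  have hle : scalarsIn Z ≤ L.M.subgroupOf C := fun z hz => L.Z_lt.le hz
  have hN : Nat.card N = 4 := by
    have h1 : N.index = (L.M.subgroupOf C).index := by
      rw [Subgroup.index_map_eq _ (QuotientGroup.mk'_surjective _) (by rw [QuotientGroup.ker_mk']; exact hle)]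
    have h2 := N.card_mul_index
    have h3 := (L.M.subgroupOf C).card_mul_index
    rw [Nat.card_congr (Subgroup.subgroupOfEquivOfLe L.M_le).toEquiv, L.card_M, hW, L.card_centralizer,
      hW, hS] at h3
    have h4 : (L.M.subgroupOf C).index = 6 := Nat.eq_of_mul_eq_mul_left
      (Nat.mul_pos Nat.card_pos (by norm_num)) h3
    rw [h1, h4, hQ] at h2
    omega
  have hC : ∀ g, (∀ n ∈ N, g * n = n * g) → g ∈ N := by
    intro q hq
    obtain ⟨g, rfl⟩ := QuotientGroup.mk'_surjective _ q
    refine ⟨g, ?_, rfl⟩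
    show (g : A) ∈ L.M
    refine L.self_centralizing g g.2 fun m hm => ?_
    have h := hq _ ⟨⟨m, L.M_le hm⟩, hm, rfl⟩
    rw [← map_mul, ← map_mul, QuotientGroup.mk'_eq_mk'] at h
    obtain ⟨z, hz, hzeq⟩ := h
    have e : (g : A) * m * (z : A) = m * (g : A) := congrArg Subtype.val hzeq
    have hgm : ⁅(g : A), m⁆ = (z : A)⁻¹ := by
      have hzc : ∀ x ∈ Subgroup.centralizer (Z : Set A), x * (z : A) = (z : A) * x := fun x hx =>
        (Subgroup.mem_centralizer_iff.mp hx (z : A) hz).symm
      rw [commutatorElement_def]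
      calc (g : A) * m * (g : A)⁻¹ * m⁻¹ = (g : A) * m * ((m : A) * (g : A))⁻¹ := by group
        _ = (g : A) * m * ((g : A) * m * (z : A))⁻¹ := by rw [e]
        _ = (g : A) * m * (z : A)⁻¹ * ((g : A) * m)⁻¹ := by group
        _ = (z : A)⁻¹ * ((g : A) * m) * ((g : A) * m)⁻¹ := by
            rw [((Commute.inv_right (hzc _ (mul_mem g.2 (L.M_le hm)))) : Commute _ _).eq]
        _ = _ := by group
    rw [hgm]
    exact Z.inv_mem hz
  have h := card_sq_mul_pairs_le _ (scalarsIn_le_center (Z := Z))
  rw [L.card_scalarsIn, L.card_centralizer, hW, hS] at h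
  have hp := ninetySix_le_pairs N hQ hN hC
  have h' := (Nat.mul_le_mul_left (Nat.card Z * Nat.card Z) hp).trans h
  have hz : 0 < Nat.card Z := Nat.card_pos
  refine Nat.le_of_mul_le_mul_right ?_ (Nat.mul_pos hz (show 0 < 24 by norm_num))
  calc 4 * Nat.card Z * (Nat.card Z * 24) = Nat.card Z * Nat.card Z * 96 := by ring
    _ ≤ _ := h'
    _ = _ := by ring

end Layer

section Primitive

theorem card_SL_two : Nat.card (Matrix.SpecialLinearGroup (Fin 2) (ZMod 2)) = 6 := by
  rw [Nat.card_eq_fintype_card]; decide +kernel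

variable {A V K : Type u} [Group A] [Finite A] [AddCommGroup V] [Finite V] [Nontrivial V]
  [DistribMulAction A V] [FaithfulSMul A V] [Field K] [Finite K] [Module K V] {Z : Subgroup A}
  [Z.Normal] {D : SemiData A V K Z}

theorem LayerData.cpb_index (L : LayerData D) :
    CPB (Subgroup.centralizer (Z : Set A)) (Nat.card L.W * Nat.card L.S) :=
  L.scalarsIn_index ▸ cpb_index_of_central _ scalarsIn_le_center

theorem LayerData.cpb_of_classes (L : LayerData D) {C c : ℕ}
    (hk : c * Nat.card Z ≤ Nat.card (ConjClasses (Subgroup.centralizer (Z : Set A))))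
    (hC : Nat.card L.W * Nat.card L.S ≤ C * c) : CPB (Subgroup.centralizer (Z : Set A)) C := by
  unfold CPB
  rw [L.card_centralizer, mul_assoc]
  calc Nat.card Z * (Nat.card L.W * Nat.card L.S) ≤ Nat.card Z * (C * c) := Nat.mul_le_mul_left _ hC
    _ = C * (c * Nat.card Z) := by ring
    _ ≤ _ := Nat.mul_le_mul_left _ hk

theorem LayerData.quotient_card (L : LayerData D) :
    Nat.card (↥(Subgroup.centralizer (Z : Set A)) ⧸ scalarsIn Z) = Nat.card L.W * Nat.card L.S := by
  rw [← Subgroup.index_eq_card, L.scalarsIn_index]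

/-- Dimension two with a layer of order four. -/
theorem LayerData.bound_four (L : LayerData D) (hd : Module.finrank K V = 2) (hW : Nat.card L.W = 4) :
    CPB (Subgroup.centralizer (Z : Set A)) 5 ∨
      (Nat.card (Subgroup.centralizer (Z : Set A)) = 24 * Nat.card Z ∧
        4 * Nat.card Z ≤ Nat.card (ConjClasses (Subgroup.centralizer (Z : Set A)))) := by
  haveI := Fact.mk Nat.prime_two
  obtain ⟨f, hf⟩ := L.exists_SL (r := 2) (by rw [hW])
  have hdvd := Subgroup.card_dvd_of_injective f hf
  rw [card_SL_two] at hdvd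
  have hle := Nat.le_of_dvd (by norm_num) hdvd
  have hpos : 0 < Nat.card L.S := Nat.card_pos
  by_cases hS : Nat.card L.S = 6
  · exact Or.inr ⟨by rw [L.card_centralizer, hW, hS]; ring, L.four_mul_le hW hS⟩
  left
  by_cases h1 : Nat.card L.S = 1
  · exact L.cpb_index.mono (by rw [hW, h1]; norm_num)
  have hS3 : Nat.card L.S ≤ 3 := by
    rcases Nat.lt_or_ge (Nat.card L.S) 4 with h | h
    · omega
    · exfalso
      interval_cases hs : Nat.card L.S <;> simp_all
  have hk4 : 4 ≤ Nat.card (ConjClasses (↥(Subgroup.centralizer (Z : Set A)) ⧸ scalarsIn Z)) := by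
    by_contra h
    have h6 := card_le_of_classes_three _ (Nat.le_of_lt_succ (Nat.lt_of_not_le h))
    rw [L.quotient_card, hW] at h6
    omega
  have hcl := L.classes_bound hd
  have h5 : 5 * Nat.card Z ≤ 2 * Nat.card (ConjClasses (Subgroup.centralizer (Z : Set A))) := by
    refine le_trans ?_ hcl
    rw [mul_comm]
    exact Nat.mul_le_mul_left _ (by omega)
  unfold CPB
  rw [L.card_centralizer, hW]
  calc Nat.card Z * 4 * Nat.card L.S ≤ Nat.card Z * 4 * 3 := Nat.mul_le_mul_left _ hS3
    _ ≤ _ := by omega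

/-- Dimension three with a layer of order nine. -/
theorem LayerData.bound_nine (L : LayerData D) (hd : Module.finrank K V = 3) (hW : Nat.card L.W = 9) :
    CPB (Subgroup.centralizer (Z : Set A)) 72 := by
  haveI := Fact.mk Nat.prime_three
  obtain ⟨f, hf⟩ := L.exists_SL (r := 3) (by rw [hW])
  have hdvd := Subgroup.card_dvd_of_injective f hf
  rw [card_SL_three] at hdvd
  have hle := Nat.le_of_dvd (by norm_num) hdvd
  by_cases h8 : Nat.card L.S ≤ 8
  · exact L.cpb_index.mono (by rw [hW]; omega)
  have hcl := L.classes_bound hd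
  by_cases h24 : Nat.card L.S = 24
  · -- the special linear group
    have hbij : Function.Bijective f :=
      (Nat.bijective_iff_injective_and_card f).mpr ⟨hf, by rw [h24, card_SL_three]⟩
    have hS7 : Nat.card (ConjClasses L.S) = 7 := by
      rw [card_conjClasses_congr (MulEquiv.ofBijective f hbij)]
      have := Cfsg.Agent.S2325.result (F := ZMod 3) (by rw [ZMod.card]; decide)
      rwa [ZMod.card] at this
    let C := Subgroup.centralizer (Z : Set A)
    let ψ : C →* L.S := (L.φ.comp C.subtype).codRestrict L.S fun g => ⟨g, g.2, rfl⟩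
    have hψ : Function.Surjective ψ := by
      rintro ⟨_, g, hg, rfl⟩
      exact ⟨⟨g, hg⟩, rfl⟩
    have hker : scalarsIn Z ≤ ψ.ker := fun z hz => Subtype.ext ((L.ker z z.2).mpr (L.Z_lt.le hz))
    have hsurj : Function.Surjective (QuotientGroup.lift (scalarsIn Z) ψ hker) :=
      QuotientGroup.lift_surjective_of_surjective _ ψ hψ hker
    have hk7 : 7 ≤ Nat.card (ConjClasses (↥(Subgroup.centralizer (Z : Set A)) ⧸ scalarsIn Z)) := by
      rw [← hS7]
      exact Nat.card_le_card_of_surjective _ (ConjClasses.map_surjective hsurj)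
    refine L.cpb_of_classes (c := 3) ?_ (by rw [hW, h24])
    have : Nat.card Z * 9 ≤ 3 * Nat.card (ConjClasses (Subgroup.centralizer (Z : Set A))) :=
      le_trans (Nat.mul_le_mul_left _ (by omega)) hcl
    omega
  · have h12 : Nat.card L.S = 12 := by
      interval_cases hs : Nat.card L.S <;> simp_all
    have hk4 : 4 ≤ Nat.card (ConjClasses (↥(Subgroup.centralizer (Z : Set A)) ⧸ scalarsIn Z)) := by
      by_contra h
      have h6 := card_le_of_classes_three _ (Nat.le_of_lt_succ (Nat.lt_of_not_le h))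
      rw [L.quotient_card, hW, h12] at h6
      omega
    refine L.cpb_of_classes (c := 2) ?_ (by rw [hW, h12]; norm_num)
    have : Nat.card Z * 6 ≤ 3 * Nat.card (ConjClasses (Subgroup.centralizer (Z : Set A))) :=
      le_trans (Nat.mul_le_mul_left _ (by omega)) hcl
    omega

/-- Dimension four with a layer of order sixteen. -/
theorem LayerData.bound_sixteen (L : LayerData D) (hsol : Group.IsSolvable A)
    (hd : Module.finrank K V = 4) (hW : Nat.card L.W = 16) :
    CPB (Subgroup.centralizer (Z : Set A)) 720 := by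
  have hS := L.card_S_sixteen hsol hW
  by_cases h45 : Nat.card L.S ≤ 45
  · exact L.cpb_index.mono (by rw [hW]; omega)
  have hk5 : 5 ≤ Nat.card (ConjClasses (↥(Subgroup.centralizer (Z : Set A)) ⧸ scalarsIn Z)) :=
    five_le_classes (by rw [L.quotient_card, hW]; omega)
  refine L.cpb_of_classes (c := 2) ?_ (by rw [hW]; omega)
  have : Nat.card Z * 8 ≤ 4 * Nat.card (ConjClasses (Subgroup.centralizer (Z : Set A))) :=
    le_trans (Nat.mul_le_mul_left _ (by omega)) (L.classes_bound hd)
  omega

/-- The crude bound for a layer of order at most forty nine. -/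
theorem LayerData.bound_small (L : LayerData D) (hsol : Group.IsSolvable A) {e : ℕ}
    (hW : Nat.card L.W = e * e) (he : e ≤ 7) :
    Nat.card L.W * Nat.card L.S ≤
      if e ≤ 2 then 24 else if e ≤ 3 then 216 else if e ≤ 4 then 1440 else if e ≤ 5 then 3000
      else if e ≤ 6 then 10368 else 117649 := by
  have h1 := L.one_lt_card
  rw [hW] at h1
  have he2 : 2 ≤ e := by
    by_contra h
    interval_cases e <;> omega
  rw [hW]
  generalize hs : Nat.card L.S = s
  rcases (show e = 2 ∨ e = 3 ∨ e = 4 ∨ e = 5 ∨ e = 6 ∨ e = 7 by omega) with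
    rfl | rfl | rfl | rfl | rfl | rfl <;> norm_num
  · haveI := Fact.mk Nat.prime_two
    obtain ⟨f, hf⟩ := L.exists_SL (r := 2) hW
    have := (Nat.card_le_card_of_injective f hf).trans_eq card_SL_two
    omega
  · haveI := Fact.mk Nat.prime_three
    obtain ⟨f, hf⟩ := L.exists_SL (r := 3) hW
    have := (Nat.card_le_card_of_injective f hf).trans_eq card_SL_three
    omega
  · have := L.card_S_sixteen hsol hW
    omega
  · haveI : Fact (Nat.Prime 5) := ⟨by norm_num⟩
    obtain ⟨f, hf⟩ := L.exists_SL (r := 5) hW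
    have := (Nat.card_le_card_of_injective f hf).trans_eq card_SL_five
    omega
  · have := L.card_S_thirtySix hW
    omega
  · haveI : Fact (Nat.Prime 7) := ⟨by norm_num⟩
    obtain ⟨f, hf⟩ := L.exists_SL (r := 7) hW
    have := (Nat.card_le_card_of_injective f hf).trans card_SL_seven_le
    omega

/-- The bound for primitive groups. -/
theorem prim_bound {A V : Type u} [Group A] [Finite A] [AddCommGroup V] [Finite V] [Nontrivial V]
    [DistribMulAction A V] [FaithfulSMul A V] {p a : ℕ} (hp : p.Prime) (hp11 : 11 ≤ p)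
    (hsol : Group.IsSolvable A) (P : Prim A V p a) :
    (∃ C, PrimBound p a C ∧ CPB A C) ∧
      (a = 2 → CPB A 5 ∨ ∃ z, Nat.card A = 24 * z ∧ 4 * z ≤ Nat.card (ConjClasses A) ∧ z ∣ p - 1) := by
  obtain ⟨K, _, _, _, Z, _, D, hZ, m, d, hdim, hK, hfin, hidx, hlayer⟩ := P
  have hm : 0 < m := by
    rcases Nat.eq_zero_or_pos m with rfl | h
    · rw [pow_zero] at hK
      exact absurd hK (Finite.one_lt_card (α := K)).ne'
    · exact h
  have hd : 0 < d := by
    haveI : FiniteDimensional K V := Module.Finite.of_finite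
    rw [← hfin]
    exact Module.finrank_pos
  have ha : 0 < a := hdim ▸ Nat.mul_pos hm hd
  -- the centraliser is commutative
  have hflat : ∀ C₀ : ℕ, CPB (Subgroup.centralizer (Z : Set A)) C₀ → CPB A (C₀ * (m * m)) :=
    fun C₀ h => cpb_of_subgroup_le _ h hidx
  have hcomm : CPB (Subgroup.centralizer (Z : Set A)) 1 → (∃ C, PrimBound p a C ∧ CPB A C) ∧
      (a = 2 → CPB A 5 ∨ ∃ z, Nat.card A = 24 * z ∧ 4 * z ≤ Nat.card (ConjClasses A) ∧ z ∣ p - 1) := by
    intro h
    have h' := hflat 1 h
    rw [one_mul] at h'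
    have hma : m ≤ a := hdim ▸ Nat.le_mul_of_pos_right m hd
    have hmm : m * m ≤ a * a := Nat.mul_le_mul hma hma
    refine ⟨⟨a * a, ?_, h'.mono hmm⟩, fun h2 => Or.inl (h'.mono (by subst h2; omega))⟩
    rcases Nat.lt_or_ge a 8 with h8 | h8
    · unfold PrimBound
      interval_cases a <;> norm_num
    · refine Or.inr (Or.inr (Or.inr (Or.inr (Or.inr (Or.inr (Or.inr ⟨h8, ?_⟩))))))
      calc 5 * (a * a) ≤ (a * a * a * a * a * a) * (a * a) := by
            refine Nat.mul_le_mul_right _ (le_trans (by omega : 5 ≤ a) ?_)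
            calc a = a * 1 * 1 * 1 * 1 * 1 := by ring
              _ ≤ _ := by gcongr <;> omega
        _ = a ^ 8 := by ring
  rcases hlayer with hZC | ⟨⟨L⟩⟩
  · refine hcomm (cpb_of_comm fun x y => Subtype.ext ?_)
    exact hZ x (hZC.ge x.2) y (hZC.ge y.2)
  obtain ⟨e, he⟩ := exists_card_eq_sq L.b L.alt L.nd
  have hW1 := L.one_lt_card
  have hed : e ≤ d := Nat.mul_self_le_mul_self_iff.mp (by rw [← he, ← hfin]; exact L.card_W_le)
  have he2 : 2 ≤ e := by
    by_contra h
    interval_cases e <;> omega
  have hd2 : 2 ≤ d := he2.trans hed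
  have hbig := hflat _ L.cpb_index
  refine ⟨?_, fun h2 => ?_⟩
  swap
  · -- dimension two
    subst h2
    have hd' : d = 2 := by
      have := Nat.le_of_dvd (by norm_num) (Dvd.intro_left m hdim.symm)
      omega
    subst hd'
    have hm1 : m = 1 := by omega
    subst hm1
    have hidx1 : (Subgroup.centralizer (Z : Set A)).index = 1 := by
      have := Nat.pos_of_ne_zero (Subgroup.index_ne_zero_of_finite (H := Subgroup.centralizer (Z : Set A)))
      omega
    have htop := Subgroup.index_eq_one.mp hidx1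
    have hiso : Subgroup.centralizer (Z : Set A) ≃* A := (MulEquiv.subgroupCongr htop).trans Subgroup.topEquiv
    have hW : Nat.card L.W = 4 := by
      have : e = 2 := by omega
      rw [he, this]
    rcases L.bound_four hfin hW with h5 | ⟨h24, h4⟩
    · exact Or.inl (cpb_congr hiso.symm h5)
    · refine Or.inr ⟨Nat.card Z, ?_, ?_, ?_⟩
      · rw [← h24, Nat.card_congr hiso.toEquiv]
      · rw [← card_conjClasses_congr hiso]; exact h4
      · have h := Subgroup.card_dvd_of_injective D.ι D.ι_injective
        rwa [Nat.card_units, hK, pow_one] at h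
  rcases Nat.lt_or_ge a 8 with ha8 | ha8
  swap
  · -- large dimension
    refine ⟨m * m * (Nat.card L.W * Nat.card L.S), ?_, by rw [mul_comm]; exact hbig⟩
    refine Or.inr (Or.inr (Or.inr (Or.inr (Or.inr (Or.inr (Or.inr ⟨ha8, ?_⟩))))))
    have h5 := L.five hsol
    rw [hdim]
    calc 5 * (m * m * (Nat.card L.W * Nat.card L.S))
        = m * m * (Nat.card L.W * (5 * Nat.card L.S)) := by ring
      _ ≤ m * m * ((e * e) * (e * e) ^ 3) := by rw [← he]; gcongr
      _ = m * m * e ^ 8 := by ring
      _ ≤ m ^ 8 * d ^ 8 := by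
          refine Nat.mul_le_mul ?_ (Nat.pow_le_pow_left hed 8)
          rw [← pow_two]
          exact Nat.pow_le_pow_right hm (by norm_num)
      _ = (m * d) ^ 8 := (mul_pow m d 8).symm
  have hsmall := L.bound_small hsol he (by
    have : d ≤ a := hdim ▸ Nat.le_mul_of_pos_left d hm
    omega)
  rcases Nat.lt_or_ge m 2 with hm1 | hm2
  · -- absolutely irreducible
    obtain rfl : m = 1 := by omega
    rw [one_mul] at hdim
    subst a
    rw [mul_one, mul_one] at hbig
    have hflat' : ∀ C₀ : ℕ, CPB (Subgroup.centralizer (Z : Set A)) C₀ → CPB A C₀ := fun C₀ h => by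
      simpa using hflat C₀ h
    interval_cases d
    · -- two
      have : e = 2 := by omega
      subst this
      rcases L.bound_four hfin he with h5 | ⟨h24, h4⟩
      · exact ⟨6, Or.inr (Or.inl ⟨rfl, le_rfl⟩), (hflat' _ h5).mono (by norm_num)⟩
      · refine ⟨6, Or.inr (Or.inl ⟨rfl, le_rfl⟩), hflat' 6 ?_⟩
        unfold CPB
        rw [h24]
        omega
    · -- three
      rcases (show e = 2 ∨ e = 3 by omega) with rfl | rfl
      · norm_num at hsmall
        exact ⟨24, Or.inr (Or.inr (Or.inl ⟨rfl, Or.inl le_rfl⟩)), hbig.mono hsmall⟩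
      · refine ⟨72, Or.inr (Or.inr (Or.inl ⟨rfl, Or.inr ⟨le_rfl, ?_⟩⟩)), hflat' _ (L.bound_nine hfin he)⟩
        have h := prime_dvd_card_values L.b L.nd Nat.prime_three (by rw [he]; norm_num)
        rw [Nat.card_units, hK, pow_one] at h
        by_contra h13
        interval_cases p <;> revert h hp <;> norm_num
    · -- four
      rcases (show e = 2 ∨ e = 3 ∨ e = 4 by omega) with rfl | rfl | rfl
      · norm_num at hsmall
        exact ⟨720, Or.inr (Or.inr (Or.inr (Or.inl ⟨rfl, le_rfl⟩))), hbig.mono (hsmall.trans (by norm_num))⟩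
      · norm_num at hsmall
        exact ⟨720, Or.inr (Or.inr (Or.inr (Or.inl ⟨rfl, le_rfl⟩))), hbig.mono (hsmall.trans (by norm_num))⟩
      · exact ⟨720, Or.inr (Or.inr (Or.inr (Or.inl ⟨rfl, le_rfl⟩))),
          hflat' _ (L.bound_sixteen hsol hfin he)⟩
    · refine ⟨3000, Or.inr (Or.inr (Or.inr (Or.inr (Or.inl ⟨rfl, le_rfl⟩)))), hbig.mono (hsmall.trans ?_)⟩
      split_ifs <;> omega
    · refine ⟨10368, Or.inr (Or.inr (Or.inr (Or.inr (Or.inr (Or.inl ⟨rfl, le_rfl⟩))))),
        hbig.mono (hsmall.trans ?_)⟩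
      split_ifs <;> omega
    · refine ⟨117649, Or.inr (Or.inr (Or.inr (Or.inr (Or.inr (Or.inr (Or.inl ⟨rfl, le_rfl⟩)))))),
        hbig.mono (hsmall.trans ?_)⟩
      split_ifs <;> omega
  · -- a proper field extension
    have hd3 : d ≤ 3 := by
      have := Nat.mul_le_mul_right d hm2
      omega
    have hm3 : m ≤ 3 := by
      have := Nat.mul_le_mul_left m hd2
      omega
    subst hdim
    refine ⟨_, ?_, hbig.mono (Nat.mul_le_mul_right (m * m) hsmall)⟩
    unfold PrimBound
    interval_cases m <;> interval_cases d <;> interval_cases e <;> norm_num at *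

end Primitive

end Cfsg.Agent.SqClass
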