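import Cfsg.Agent.Lib.Grp.SqClass.Linear
import Cfsg.Agent.Lib.Grp.Solvable

/-!
# Class numbers of solvable groups of order divisible by a prime square
-/

set_option autoImplicit false
set_option linter.style.haveILetI false

universe u

namespace Cfsg.Agent.SqClass

open BaseTwo (IsIrr)
open scoped IsMulCommutative

/-- Automorphisms of a group of prime order commute. -/
theorem mulAut_comm_of_prime {M : Type*} [Group M] {p : ℕ} [Fact p.Prime] (hM : Nat.card M = p)
    (f g : MulAut M) : f * g = g * f := by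
  haveI : IsCyclic M := isCyclic_of_prime_card hM
  obtain ⟨c, hc⟩ := IsCyclic.exists_generator (α := M)
  refine MulEquiv.ext fun x => ?_
  obtain ⟨i, rfl⟩ := Subgroup.mem_zpowers_iff.mp (hc x)
  obtain ⟨a, ha⟩ := Subgroup.mem_zpowers_iff.mp (hc (f c))
  obtain ⟨b, hb⟩ := Subgroup.mem_zpowers_iff.mp (hc (g c))
  rw [MulAut.mul_apply, MulAut.mul_apply, map_zpow, map_zpow, map_zpow, map_zpow, ← ha, ← hb,
    map_zpow, map_zpow, ← ha, ← hb, ← zpow_mul, ← zpow_mul, ← zpow_mul, ← zpow_mul]
  congr 1
  ring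

variable {G : Type u} [Group G]

/-- The homomorphism onto the linear group induced on a minimal abelian normal subgroup. -/
theorem exists_linear_hom [Finite G] (N : Subgroup G) [N.Normal] [IsMulCommutative N]
    (hmin : ∀ M : Subgroup G, M.Normal → M ≤ N → M = ⊥ ∨ M = N) :
    ∃ φ : G →* (AddMonoid.End (Additive N))ˣ,
      (∀ (g : G) (x : Additive N),
        (((φ g : AddMonoid.End (Additive N)) x).toMul : G) = g * (x.toMul : G) * g⁻¹) ∧
      φ.ker = Subgroup.centralizer (N : Set G) ∧ IsIrr φ.range (Additive N) ∧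
      (Subgroup.centralizer (N : Set G)).index = Nat.card φ.range ∧
      (Group.IsSolvable G → Group.IsSolvable φ.range) ∧
      Nat.card (ConjClasses φ.range) ≤ Nat.card (ConjClasses (G ⧸ N)) := by
  let φ : G →* (AddMonoid.End (Additive N))ˣ :=
    MonoidHom.toHomUnits
      { toFun := fun g => MonoidHom.toAdditive (MulAut.conjNormal g : MulAut N).toMonoidHom
        map_one' := AddMonoidHom.ext fun x => Additive.toMul.injective (Subtype.ext (by
          show ((MulAut.conjNormal (1 : G) : MulAut N) x.toMul : G) = (x.toMul : G)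
          rw [map_one, MulAut.one_apply]))
        map_mul' := fun g h => AddMonoidHom.ext fun x => Additive.toMul.injective (by
          show (MulAut.conjNormal (g * h) : MulAut N) x.toMul =
            (MulAut.conjNormal g : MulAut N) ((MulAut.conjNormal h : MulAut N) x.toMul)
          rw [map_mul, MulAut.mul_apply]) }
  have hφ : ∀ (g : G) (x : Additive N),
      (((φ g : AddMonoid.End (Additive N)) x).toMul : G) = g * (x.toMul : G) * g⁻¹ := fun g x =>
    MulAut.conjNormal_apply g x.toMul
  have hker : φ.ker = Subgroup.centralizer (N : Set G) := by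
    ext g
    rw [MonoidHom.mem_ker, Subgroup.mem_centralizer_iff]
    constructor
    · intro h n hn
      have e := hφ g (Additive.ofMul (⟨n, hn⟩ : N))
      rw [h] at e
      exact (eq_mul_inv_iff_mul_eq.mp e)
    · intro h
      refine Units.ext (AddMonoidHom.ext fun x => Additive.toMul.injective (Subtype.ext ?_))
      refine Eq.trans (hφ g x) ?_
      rw [← h _ x.toMul.2, mul_inv_cancel_right]
      rfl
  refine ⟨φ, hφ, hker, ?_, ?_, fun h => ?_, ?_⟩
  · intro U hU
    let M : Subgroup G := (AddSubgroup.toSubgroup' U).map N.subtype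
    have hMn : M.Normal := by
      refine ⟨?_⟩
      rintro _ ⟨x, hx, rfl⟩ g
      exact ⟨_, hU ⟨φ g, g, rfl⟩ (Additive.ofMul x) hx, hφ g (Additive.ofMul x)⟩
    rcases hmin M hMn (Subgroup.map_subtype_le _) with h | h
    · left
      rw [eq_bot_iff]
      intro x hx
      have : (x.toMul : G) ∈ M := ⟨x.toMul, hx, rfl⟩
      rw [h, Subgroup.mem_bot] at this
      exact AddSubgroup.mem_bot.mpr (Additive.toMul.injective (Subtype.ext this))
    · right
      rw [eq_top_iff]
      intro x _
      obtain ⟨y, hy, hyx⟩ := (h.ge x.toMul.2 : (x.toMul : G) ∈ M)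
      rw [show x = Additive.ofMul y from Additive.toMul.injective (Subtype.ext hyx.symm)]
      exact hy
  · rw [← hker, Subgroup.index_ker]
  · exact Group.isSolvable_of_surjective φ.rangeRestrict_surjective
  · have hle : N ≤ φ.rangeRestrict.ker := by
      rw [MonoidHom.ker_rangeRestrict, hker]
      exact Subgroup.le_centralizer N
    exact Nat.card_le_card_of_surjective _ (ConjClasses.map_surjective
      (QuotientGroup.lift_surjective_of_surjective N φ.rangeRestrict φ.rangeRestrict_surjective hle))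

/-- The linear group induced on an abelian normal subgroup. -/
theorem exists_linear [Finite G] (N : Subgroup G) [N.Normal] [IsMulCommutative N]
    (hmin : ∀ M : Subgroup G, M.Normal → M ≤ N → M = ⊥ ∨ M = N) :
    ∃ A : Subgroup (AddMonoid.End (Additive N))ˣ, IsIrr A (Additive N) ∧
      (Subgroup.centralizer (N : Set G)).index = Nat.card A ∧
      (Group.IsSolvable G → Group.IsSolvable A) ∧
      Nat.card (ConjClasses A) ≤ Nat.card (ConjClasses (G ⧸ N)) := by
  obtain ⟨φ, -, -, h⟩ := exists_linear_hom N hmin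
  exact ⟨φ.range, h⟩

/-- When all minimal normal subgroups have prime order. -/
theorem bound_small_minimal [Finite G] (hsol : Group.IsSolvable G) {p : ℕ} [hp : Fact p.Prime]
    (hp2 : p ^ 2 ∣ Nat.card G) (hidx : ∀ N : Subgroup G, N.Normal → N ≠ ⊥ → ¬ p ^ 2 ∣ N.index)
    (hmin : ∀ N : Subgroup G, N.Normal → N ≠ ⊥ →
      (∀ M : Subgroup G, M.Normal → M ≤ N → M = ⊥ ∨ M = N) → Nat.card N = p)
    (N : Subgroup G) [N.Normal] (hN : N ≠ ⊥)
    (hNmin : ∀ M : Subgroup G, M.Normal → M ≤ N → M = ⊥ ∨ M = N) :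
    49 * p ≤ 60 * Nat.card (ConjClasses G) := by
  have hpp := hp.out
  haveI := hsol
  have hNp := hmin N inferInstance hN hNmin
  -- every nontrivial normal subgroup has order divisible by the prime
  have hdvd : ∀ H : Subgroup G, H.Normal → H ≠ ⊥ → p ∣ Nat.card H := by
    intro H hH hH0
    obtain ⟨L, ⟨hLn, hL0, hLH⟩, hLmin⟩ :=
      ({K : Subgroup G | K.Normal ∧ K ≠ ⊥ ∧ K ≤ H}).toFinite.exists_minimal ⟨H, hH, hH0, le_rfl⟩
    have hL := hmin L hLn hL0 fun M hM hML => by
      by_cases h0 : M = ⊥
      · exact Or.inl h0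
      · exact Or.inr (le_antisymm hML (hLmin ⟨hM, h0, hML.trans hLH⟩ hML))
    exact hL ▸ Subgroup.card_dvd_of_le hLH
  set C := Subgroup.centralizer (N : Set G) with hC
  haveI : C.Normal := by rw [hC]; infer_instance
  have hNC : N ≤ C := by
    haveI : IsCyclic N := isCyclic_of_prime_card hNp
    exact Subgroup.le_centralizer N
  have hcent : ∀ n ∈ N, ∀ x ∈ C, n * x = x * n := fun n hn x hx =>
    Subgroup.mem_centralizer_iff.mp hx n hn
  have hlt : N < C := by
    refine lt_of_le_of_ne hNC fun h => ?_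
    let c : G →* MulAut N := MulAut.conjNormal
    have hck : c.ker ≤ C := fun g hg => Subgroup.mem_centralizer_iff.mpr fun n hn => by
      have := congrArg (fun f : MulAut N => ((f ⟨n, hn⟩ : N) : G)) hg
      simp only [c, MulAut.conjNormal_apply, MulAut.one_apply] at this
      exact (mul_inv_eq_iff_eq_mul.mp this).symm
    have hd : C.index ∣ Nat.card (MulAut N) :=
      (Subgroup.index_dvd_of_le hck).trans (Subgroup.index_ker c ▸ Subgroup.card_subgroup_dvd_card _)
    obtain ⟨k, hk, haut⟩ := card_mulAut_elem (M := N) (r := p)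
      (fun a b => Subtype.ext (hcent a a.2 b (hNC b.2))) (fun a => hNp ▸ pow_card_eq_one')
    obtain rfl : k = 1 := Nat.pow_right_injective hpp.two_le
      (show p ^ k = p ^ 1 by rw [← hk, hNp, pow_one])
    rw [haut, Fin.prod_univ_one, Fin.val_zero, pow_one, pow_zero] at hd
    have h1 := C.card_mul_index
    rw [← h] at h1 hd
    rw [← h1, hNp, pow_two] at hp2
    have h2 : p ≤ p - 1 := Nat.le_of_dvd (Nat.sub_pos_of_lt hpp.one_lt)
      ((Nat.dvd_of_mul_dvd_mul_left hpp.pos hp2).trans hd)
    have h3 : 1 < p := hpp.one_lt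
    omega
  obtain ⟨M, ⟨hMn, hNM, hMC⟩, hMmin⟩ :=
    ({Y : Subgroup G | Y.Normal ∧ N < Y ∧ Y ≤ C}).toFinite.exists_minimal
      ⟨C, inferInstance, hlt, le_rfl⟩
  haveI := hMn
  let mk := QuotientGroup.mk' N
  haveI : (M.map mk).Normal := Subgroup.Normal.map inferInstance _ (QuotientGroup.mk'_surjective N)
  have hM0 : M.map mk ≠ ⊥ := by
    rw [Ne, Subgroup.map_eq_bot_iff, QuotientGroup.ker_mk']
    exact hNM.not_ge
  haveI : Group.IsSolvable (G ⧸ N) := Group.isSolvable_of_surjective (QuotientGroup.mk'_surjective N)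
  obtain ⟨-, q, hq, hqexp⟩ := Grp.minimal_normal_solvable (N := M.map mk) inferInstance hM0
    (fun X hX hXM => by
      have hNX : N ≤ X.comap mk := fun n hn => by
        show mk n ∈ X
        rw [show mk n = 1 from (QuotientGroup.eq_one_iff n).mpr hn]
        exact X.one_mem
      have hle : X.comap mk ≤ M := by
        refine (Subgroup.comap_mono hXM).trans ?_
        rw [Subgroup.comap_map_eq, QuotientGroup.ker_mk', sup_eq_left.mpr hNM.le]
      rcases eq_or_lt_of_le hNX with h | h
      · left
        rw [← Subgroup.map_comap_eq_self_of_surjective (QuotientGroup.mk'_surjective N) X, ← h,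
          Subgroup.map_eq_bot_iff, QuotientGroup.ker_mk']
      · right
        rw [← Subgroup.map_comap_eq_self_of_surjective (QuotientGroup.mk'_surjective N) X]
        exact congrArg (Subgroup.map mk) (le_antisymm hle (hMmin ⟨hX.comap mk, h, hle.trans hMC⟩ hle)))
  have hpowN : ∀ x ∈ M, x ^ q ∈ N := fun x hx =>
    (QuotientGroup.eq_one_iff _).mp ((map_pow mk x q).trans (hqexp _ ⟨x, hx, rfl⟩))
  have hNpow : ∀ n ∈ N, n ^ p = 1 := fun n hn => by
    have := pow_card_eq_one' (G := N) (x := ⟨n, hn⟩)
    rw [hNp] at this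
    exact congrArg Subtype.val this
  have hqp : q = p := by
    by_contra hne
    have hcop : Nat.Coprime q p := (Nat.coprime_primes hq hpp).mpr hne
    have hcomm : ∀ x ∈ M, ∀ y ∈ M, x ^ q = 1 → mk (x * y * x⁻¹ * y⁻¹) = 1 → x * y = y * x := by
      intro x hx y hy hxq h
      set c := x * y * x⁻¹ * y⁻¹ with hc
      have hcN : c ∈ N := (QuotientGroup.eq_one_iff _).mp h
      have hxc : Commute x c := (hcent c hcN x (hMC hx)).symm
      have hy' : y * x * y⁻¹ = c⁻¹ * x := by rw [hc]; group
      have hcq : c ^ q = 1 := by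
        have e : (y * x * y⁻¹) ^ q = y * x ^ q * y⁻¹ := conj_pow
        rw [hy', (hxc.symm.inv_left).mul_pow, hxq, mul_one, mul_one, mul_inv_cancel, inv_pow,
          inv_eq_one] at e
        exact e
      have h1 := pow_gcd_eq_one.mpr ⟨hcq, hNpow c hcN⟩
      rw [hcop.gcd_eq_one, pow_one] at h1
      rw [hc] at h1
      exact mul_inv_eq_iff_eq_mul.mp (mul_inv_eq_one.mp h1)
    have hab : ∀ x ∈ M, ∀ y ∈ M, mk (x * y * x⁻¹ * y⁻¹) = 1 := by
      intro x hx y hy
      obtain ⟨hc, -⟩ := Grp.minimal_normal_solvable (N := M.map mk) inferInstance hM0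
        (fun X hX hXM => by
          have hNX : N ≤ X.comap mk := fun n hn => by
            show mk n ∈ X
            rw [show mk n = 1 from (QuotientGroup.eq_one_iff n).mpr hn]
            exact X.one_mem
          have hle : X.comap mk ≤ M := by
            refine (Subgroup.comap_mono hXM).trans ?_
            rw [Subgroup.comap_map_eq, QuotientGroup.ker_mk', sup_eq_left.mpr hNM.le]
          rcases eq_or_lt_of_le hNX with h | h
          · left
            rw [← Subgroup.map_comap_eq_self_of_surjective (QuotientGroup.mk'_surjective N) X, ← h,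
              Subgroup.map_eq_bot_iff, QuotientGroup.ker_mk']
          · right
            rw [← Subgroup.map_comap_eq_self_of_surjective (QuotientGroup.mk'_surjective N) X]
            exact congrArg (Subgroup.map mk)
              (le_antisymm hle (hMmin ⟨hX.comap mk, h, hle.trans hMC⟩ hle)))
      haveI := hc
      have e := congrArg Subtype.val
        (mul_comm' (⟨mk x, x, hx, rfl⟩ : M.map mk) ⟨mk y, y, hy, rfl⟩)
      change mk x * mk y = mk y * mk x at e
      rw [map_mul, map_mul, map_mul, map_inv, map_inv, e]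
      group
    let K : Subgroup G :=
      { carrier := {x | x ∈ M ∧ x ^ q = 1}
        one_mem' := ⟨M.one_mem, one_pow q⟩
        mul_mem' := by
          rintro x y ⟨hx, hxq⟩ ⟨hy, hyq⟩
          refine ⟨M.mul_mem hx hy, ?_⟩
          rw [Commute.mul_pow (hcomm x hx y hy hxq (hab x hx y hy)), hxq, hyq, mul_one]
        inv_mem' := by
          rintro x ⟨hx, hxq⟩
          exact ⟨M.inv_mem hx, by rw [inv_pow, hxq, inv_one]⟩ }
    have hK : K.Normal := ⟨fun x hx g => ⟨hMn.conj_mem x hx.1 g, by rw [conj_pow, hx.2, mul_one,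
      mul_inv_cancel]⟩⟩
    obtain ⟨x, hxM, hxN⟩ := Set.not_subset.mp hNM.not_ge
    have hxK : x ^ p ∈ K := ⟨M.pow_mem hxM p, by
      rw [← pow_mul, mul_comm, pow_mul]
      exact hNpow _ (hpowN x hxM)⟩
    have hK0 : K ≠ ⊥ := fun h => by
      rw [h, Subgroup.mem_bot] at hxK
      have h1 : x ^ q ∈ N := hpowN x hxM
      refine hxN ?_
      have h2 := Subgroup.zpow_mem N h1 (Nat.gcdA q p)
      have e : x = (x ^ q) ^ Nat.gcdA q p * (x ^ p) ^ Nat.gcdB q p := by
        rw [← zpow_natCast x q, ← zpow_natCast x p, ← zpow_mul, ← zpow_mul, ← zpow_add,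
          ← Nat.gcd_eq_gcd_ab, hcop.gcd_eq_one, Nat.cast_one, zpow_one]
      rw [hxK, one_zpow, mul_one] at e
      rw [SetLike.mem_coe, e]
      exact h2
    obtain ⟨y, hy⟩ := exists_prime_orderOf_dvd_card' (G := K) p (hdvd K hK hK0)
    have := orderOf_dvd_of_pow_eq_one (y.2.2 : (y : G) ^ q = 1)
    rw [Subgroup.orderOf_coe, hy] at this
    exact hne ((Nat.prime_dvd_prime_iff_eq hpp hq).mp this).symm
  subst q
  -- the normal Sylow subgroup
  have hMp : Nat.card M = p ^ 2 := by
    have hpg : IsPGroup p M := fun x => ⟨2, Subtype.ext (by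
      rw [Subgroup.coe_pow, pow_two, pow_mul]
      exact hNpow _ (hpowN x x.2))⟩
    obtain ⟨j, hj⟩ := IsPGroup.iff_card.mp hpg
    have hj2 : 2 ≤ j := by
      by_contra h
      have h1 : Nat.card N < Nat.card M := by
        refine lt_of_le_of_ne (Subgroup.card_le_of_le hNM.le) fun e => hNM.ne ?_
        exact Subgroup.eq_of_le_of_card_ge hNM.le e.ge
      rw [hNp, hj] at h1
      have := Nat.pow_le_pow_right hpp.pos (show j ≤ 1 by omega)
      rw [pow_one] at this
      omega
    rcases eq_or_lt_of_le hj2 with h | h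
    · rw [hj, ← h]
    · exfalso
      refine hidx N inferInstance hN ?_
      have h1 : p ^ 3 ∣ Nat.card G :=
        (pow_dvd_pow p h).trans (hj ▸ Subgroup.card_subgroup_dvd_card M)
      rw [← N.card_mul_index, hNp, pow_succ'] at h1
      exact Nat.dvd_of_mul_dvd_mul_left hpp.pos h1
  have hMidx : ¬ p ∣ M.index := by
    intro h
    refine hidx N inferInstance hN ?_
    have h1 : p * p ^ 2 ∣ Nat.card G := by
      rw [← M.card_mul_index, hMp, mul_comm p]
      exact mul_dvd_mul_left _ h
    rw [← N.card_mul_index, hNp] at h1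
    exact Nat.dvd_of_mul_dvd_mul_left hpp.pos h1
  have hMab : ∀ a ∈ M, ∀ b ∈ M, a * b = b * a := fun a ha b hb => by
    haveI := IsPGroup.isMulCommutative_of_card_eq_prime_sq hMp
    exact congrArg Subtype.val (mul_comm' (⟨a, ha⟩ : M) ⟨b, hb⟩)
  -- it is self centralising
  have hCM : Subgroup.centralizer (M : Set G) = M := by
    refine le_antisymm ?_ fun a ha => Subgroup.mem_centralizer_iff.mpr fun b hb => hMab b hb a ha
    set K := Subgroup.centralizer (M : Set G) with hKdef
    haveI : K.Normal := by rw [hKdef]; infer_instance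
    have hMK : M ≤ K := fun a ha => Subgroup.mem_centralizer_iff.mpr fun b hb => hMab b hb a ha
    set m := (M.subgroupOf K).index with hm
    have hcop : Nat.Coprime (Nat.card (M.subgroupOf K)) m := by
      rw [Nat.card_congr (Subgroup.subgroupOfEquivOfLe hMK).toEquiv, hMp]
      refine Nat.Coprime.pow_left 2 ((Nat.Prime.coprime_iff_not_dvd hpp).mpr fun h => hMidx ?_)
      exact h.trans (Subgroup.relIndex_dvd_index_of_normal M K)
    obtain ⟨H, hH⟩ := Subgroup.exists_right_complement'_of_coprime hcop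
    have hHm : Nat.card H = m := hH.symm.index_eq_card.symm
    have hchar : ∀ z : K, z ^ m = 1 → z ∈ H := by
      intro z hz
      obtain ⟨⟨⟨v, hv⟩, ⟨h, hh⟩⟩, rfl⟩ := hH.2 z
      have hc : Commute v h := Subtype.ext (Subgroup.mem_centralizer_iff.mp h.2 v hv)
      have hh1 : h ^ m = 1 := hHm ▸ congrArg Subtype.val (pow_card_eq_one' (G := H) (x := ⟨h, hh⟩))
      rw [hc.mul_pow, hh1, mul_one] at hz
      have hv1 : v ^ Nat.card (M.subgroupOf K) = 1 :=
        congrArg Subtype.val (pow_card_eq_one' (G := M.subgroupOf K) (x := ⟨v, hv⟩))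
      have h1 := pow_gcd_eq_one.mpr ⟨hz, hv1⟩
      rw [Nat.coprime_comm.mp hcop |>.gcd_eq_one, pow_one] at h1
      simpa [h1] using hh
    let H' := H.map K.subtype
    have hH'n : H'.Normal := by
      refine ⟨?_⟩
      rintro _ ⟨y, hy, rfl⟩ g
      refine ⟨⟨g * y * g⁻¹, Subgroup.Normal.conj_mem inferInstance _ y.2 g⟩, hchar _ ?_, rfl⟩
      refine Subtype.ext ?_
      have hy1 : (y : G) ^ m = 1 := by
        have := congrArg Subtype.val (congrArg Subtype.val (pow_card_eq_one' (G := H) (x := ⟨y, hy⟩)))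
        rw [hHm] at this
        exact this
      rw [Subgroup.coe_pow, conj_pow, hy1, mul_one, mul_inv_cancel]
      rfl
    have hH0 : H' = ⊥ := by
      by_contra hne
      have h1 := hdvd H' hH'n hne
      rw [Subgroup.card_map_of_injective K.subtype_injective, hHm] at h1
      have h2 : p ∣ Nat.card (M.subgroupOf K) := by
        rw [Nat.card_congr (Subgroup.subgroupOfEquivOfLe hMK).toEquiv, hMp]
        exact dvd_pow_self p two_ne_zero
      exact Nat.not_coprime_of_dvd_of_dvd hpp.one_lt h2 h1 hcop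
    intro z hz
    obtain ⟨⟨⟨v, hv⟩, ⟨h, hh⟩⟩, e⟩ := hH.2 ⟨z, hz⟩
    have hh1 : (h : G) = 1 := by
      have : (h : G) ∈ H' := ⟨h, hh, rfl⟩
      rwa [hH0, Subgroup.mem_bot] at this
    have : (v : G) * (h : G) = z := congrArg Subtype.val e
    rw [hh1, mul_one] at this
    exact this ▸ hv
  -- the quotient is commutative
  let Mb := M.map mk
  have hMb : Nat.card Mb = p := by
    have h1 := (M.map mk).card_mul_index
    rw [Subgroup.index_map_eq _ (QuotientGroup.mk'_surjective N) (by rw [QuotientGroup.ker_mk']; exact hNM.le),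
      ← Subgroup.index_eq_card] at h1
    have h2 := N.card_mul_index
    have h3 := M.card_mul_index
    rw [hNp] at h2
    rw [hMp, ← h2, ← h1] at h3
    have hpos : 0 < p * M.index :=
      Nat.mul_pos hpp.pos (Nat.pos_of_ne_zero Subgroup.index_ne_zero_of_finite)
    refine (Nat.eq_of_mul_eq_mul_right hpos ?_)
    calc Nat.card Mb * (p * M.index) = p * (Nat.card Mb * M.index) := by ring
      _ = p ^ 2 * M.index := h3.symm
      _ = _ := by ring
  let c₁ : G →* MulAut N := MulAut.conjNormal
  let c₂ : G →* MulAut Mb := (MulAut.conjNormal : (G ⧸ N) →* MulAut Mb).comp mk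
  have hcomm : ∀ a b : G ⧸ M, a * b = b * a := by
    intro a b
    obtain ⟨a, rfl⟩ := QuotientGroup.mk_surjective a
    obtain ⟨b, rfl⟩ := QuotientGroup.mk_surjective b
    rw [← QuotientGroup.mk_mul, ← QuotientGroup.mk_mul, QuotientGroup.eq]
    set g := (a * b)⁻¹ * (b * a) with hg
    have h1 : c₁ g = 1 := by
      rw [hg, map_mul, map_inv, map_mul, map_mul, mulAut_comm_of_prime hNp (c₁ a), inv_mul_cancel]
    have h2 : c₂ g = 1 := by
      rw [hg, map_mul, map_inv, map_mul, map_mul, mulAut_comm_of_prime hMb (c₂ a), inv_mul_cancel]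
    have hn : ∀ n ∈ N, g * n * g⁻¹ = n := fun n hn => by
      have := congrArg (fun f : MulAut N => ((f ⟨n, hn⟩ : N) : G)) h1
      simpa [c₁, MulAut.conjNormal_apply] using this
    have hgp : g ^ p ∈ Subgroup.centralizer (M : Set G) := by
      refine Subgroup.mem_centralizer_iff.mpr fun x hx => ?_
      have hq2 := congrArg (fun f : MulAut Mb => ((f ⟨mk x, x, hx, rfl⟩ : Mb) : G ⧸ N)) h2
      simp only [c₂, MonoidHom.comp_apply, MulAut.conjNormal_apply, MulAut.one_apply, ← map_inv,
        ← map_mul] at hq2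
      obtain ⟨n, hnN, hnx⟩ := (QuotientGroup.mk'_eq_mk' N).mp hq2.symm
      have hiter : ∀ j : ℕ, g ^ j * x * (g ^ j)⁻¹ = x * n ^ j := by
        intro j
        induction j with
        | zero => simp
        | succ j ih =>
          rw [pow_succ' g, mul_inv_rev]
          calc g * g ^ j * x * ((g ^ j)⁻¹ * g⁻¹) = g * (g ^ j * x * (g ^ j)⁻¹) * g⁻¹ := by group
            _ = g * (x * n ^ j) * g⁻¹ := by rw [ih]
            _ = (g * x * g⁻¹) * (g * n ^ j * g⁻¹) := by group
            _ = _ := by rw [hn _ (N.pow_mem hnN j), ← hnx, mul_assoc, ← pow_succ']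
      have h := hiter p
      rw [hNpow n hnN, mul_one] at h
      exact (mul_inv_eq_iff_eq_mul.mp h).symm
    rw [hCM] at hgp
    have h3 : (QuotientGroup.mk g : G ⧸ M) ^ p = 1 := by
      rw [← QuotientGroup.mk_pow]
      exact (QuotientGroup.eq_one_iff _).mpr hgp
    have h4 : (QuotientGroup.mk g : G ⧸ M) ^ M.index = 1 := by
      rw [Subgroup.index_eq_card]; exact pow_card_eq_one'
    have h5 := pow_gcd_eq_one.mpr ⟨h3, h4⟩
    rw [((Nat.Prime.coprime_iff_not_dvd hpp).mpr hMidx).gcd_eq_one, pow_one] at h5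
    exact (QuotientGroup.eq_one_iff g).mp h5
  obtain ⟨x, hxk, hx⟩ := exists_classes_bound M
  rw [hCM, hMp, Subgroup.index_eq_card] at hx
  refine le_trans (bound_of_crit (C := 1) (cpb_of_comm hcomm) hx (crit_one hpp.two_le le_rfl) one_pos) ?_
  exact Nat.mul_le_mul_left _ hxk

/-- The class number bound. -/
theorem main {p : ℕ} [hp : Fact p.Prime] : ∀ (n : ℕ) (G : Type u) [Group G] [Finite G],
    Group.IsSolvable G → Nat.card G ≤ n → p ^ 2 ∣ Nat.card G →
    49 * p ≤ 60 * Nat.card (ConjClasses G) := by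
  intro n
  induction n with
  | zero => intro G _ _ _ h; have : 0 < Nat.card G := Nat.card_pos; omega
  | succ n ih =>
    intro G _ _ hsol hn hp2
    haveI := hsol
    by_cases hq : ∃ N : Subgroup G, N.Normal ∧ N ≠ ⊥ ∧ p ^ 2 ∣ N.index
    · obtain ⟨N, hNn, hN0, hd⟩ := hq
      haveI := hNn
      have hlt : Nat.card (G ⧸ N) < Nat.card G := by
        rw [Subgroup.card_eq_card_quotient_mul_card_subgroup N]
        exact lt_mul_of_one_lt_right Nat.card_pos ((Subgroup.one_lt_card_iff_ne_bot N).mpr hN0)
      refine (ih (G ⧸ N) (Group.isSolvable_of_surjective (QuotientGroup.mk'_surjective N)) (by omega)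
        (Subgroup.index_eq_card N ▸ hd)).trans ?_
      exact Nat.mul_le_mul_left _ (card_classes_quotient_le N)
    push Not at hq
    haveI : Nontrivial G := Finite.one_lt_card_iff_nontrivial.mp
      (lt_of_lt_of_le (Nat.one_lt_pow two_ne_zero hp.out.one_lt) (Nat.le_of_dvd Nat.card_pos hp2))
    -- minimal normal subgroups are elementary abelian for the prime
    have helem : ∀ N : Subgroup G, N.Normal → N ≠ ⊥ →
        (∀ M : Subgroup G, M.Normal → M ≤ N → M = ⊥ ∨ M = N) →
        IsMulCommutative N ∧ ∃ a, 1 ≤ a ∧ Nat.card N = p ^ a := by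
      intro N hNn hN0 hmin
      haveI := hNn
      obtain ⟨hab, r, hr, hexp⟩ := Grp.minimal_normal_solvable inferInstance hN0 hmin
      haveI := Fact.mk hr
      obtain ⟨a, ha⟩ := IsPGroup.iff_card.mp (show IsPGroup r N from
        fun x => ⟨1, Subtype.ext (by rw [pow_one]; exact hexp x x.2)⟩)
      have hrp : r = p := by
        by_contra hne
        refine hq N hNn hN0 ?_
        have hcop : Nat.Coprime (p ^ 2) (Nat.card N) := by
          rw [ha]
          exact Nat.Coprime.pow _ _ ((Nat.coprime_primes hp.out hr).mpr (Ne.symm hne))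
        rw [← N.card_mul_index] at hp2
        exact hcop.dvd_of_dvd_mul_left hp2
      subst hrp
      refine ⟨hab, a, Nat.pos_of_ne_zero fun h => ?_, ha⟩
      rw [h, pow_zero] at ha
      exact hN0 (Subgroup.card_eq_one.mp ha)
    by_cases hbig : ∃ N : Subgroup G, N.Normal ∧ N ≠ ⊥ ∧
        (∀ M : Subgroup G, M.Normal → M ≤ N → M = ⊥ ∨ M = N) ∧ Nat.card N ≠ p
    · obtain ⟨N, hNn, hN0, hmin, hne⟩ := hbig
      haveI := hNn
      obtain ⟨hab, a, ha1, ha⟩ := helem N hNn hN0 hmin
      haveI := hab
      have ha2 : 2 ≤ a := by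
        by_contra h
        obtain rfl : a = 1 := by omega
        exact hne (by rw [ha, pow_one])
      obtain ⟨A, hirr, hidx, hAsol, hk⟩ := exists_linear N hmin
      obtain ⟨x, hxk, hx⟩ := exists_classes_bound N
      rw [hidx, ha] at hx
      have h := linear_bound hp.out ha2 A (hAsol hsol) hirr
        ((Nat.card_congr (Additive.ofMul (α := N)).symm).trans ha) hx
      refine h.trans (Nat.mul_le_mul_left _ ?_)
      omega
    push Not at hbig
    obtain ⟨N, ⟨hNn, hN0⟩, hNmin⟩ :=
      ({K : Subgroup G | K.Normal ∧ K ≠ ⊥}).toFinite.exists_minimal ⟨⊤, inferInstance, top_ne_bot⟩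
    haveI := hNn
    have hmin' : ∀ K : Subgroup G, K.Normal → K ≤ N → K = ⊥ ∨ K = N := fun K hK hKN => by
      by_cases h0 : K = ⊥
      · exact Or.inl h0
      · exact Or.inr (le_antisymm hKN (hNmin ⟨hK, h0⟩ hKN))
    exact bound_small_minimal hsol hp2 (fun M h1 h2 h3 => hq M h1 h2 h3) hbig N hN0 hmin'

end Cfsg.Agent.SqClass
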