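import Mathlib
import Cfsg.Agent.Lib.Grp.BaseTwo.Pairing
import Cfsg.Agent.Lib.Grp.BaseTwo.LayerBounds
import Cfsg.Agent.Lib.Grp.SqClass.PermBound

/-!
# Groups preserving an alternating pairing
-/

set_option autoImplicit false
set_option linter.style.haveILetI false

universe u v

namespace Cfsg.Agent.SqClass

open BaseTwo (IsInv IsCR autAdd pairing_skew)

variable {G : Type v} [CommGroup G] [Finite G] [IsCyclic G]

/-- The order of a group with a nondegenerate alternating pairing is a square. -/
theorem exists_card_eq_sq_aux : ∀ (n : ℕ) (W : Type u) [CommGroup W] [Finite W] (b : W →* W →* G),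
    (∀ w, b w w = 1) → (∀ w, b w = 1 → w = 1) → Nat.card W ≤ n → ∃ e, Nat.card W = e * e := by
  intro n
  induction n with
  | zero => intro W _ _ b _ _ h; have : 0 < Nat.card W := Nat.card_pos; omega
  | succ n ih =>
    intro W _ _ b halt hnd hn
    classical
    by_cases h1 : Nat.card W = 1
    · exact ⟨1, by rw [h1]⟩
    obtain ⟨r, hr, hrW⟩ := Nat.exists_prime_and_dvd h1
    haveI := Fact.mk hr
    obtain ⟨f, hf⟩ := exists_prime_orderOf_dvd_card' (G := W) r hrW
    have hfr : ∀ m, b f m ^ r = 1 := fun m => by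
      rw [← MonoidHom.pow_apply, ← map_pow, ← hf, pow_orderOf_eq_one, map_one, MonoidHom.one_apply]
    obtain ⟨g, hg⟩ : ∃ g, b f g ≠ 1 := by
      by_contra h
      push Not at h
      have := hnd f (MonoidHom.ext h)
      rw [this, orderOf_one] at hf
      exact hr.one_lt.ne hf
    have ho : orderOf (b f g) = r := orderOf_eq_prime (hfr g) hg
    -- all values lie in the cyclic group generated by one of them
    have hval : ∀ u : G, u ^ r = 1 → u ∈ Subgroup.zpowers (b f g) := by
      haveI := Fintype.ofFinite G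
      have hE : Finset.univ.filter (fun x : G => x ∈ Subgroup.zpowers (b f g)) =
          Finset.univ.filter (fun x : G => x ^ r = 1) := by
        refine Finset.eq_of_subset_of_card_le (fun x hx => ?_) ?_
        · simp only [Finset.mem_filter, Finset.mem_univ, true_and] at hx ⊢
          obtain ⟨k, rfl⟩ := Subgroup.mem_zpowers_iff.mp hx
          rw [← zpow_natCast, ← zpow_mul, mul_comm, zpow_mul, zpow_natCast, hfr, one_zpow]
        · refine (IsCyclic.card_pow_eq_one_le hr.pos).trans ?_
          rw [← Fintype.card_subtype, ← Nat.card_eq_fintype_card]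
          exact le_of_eq (by rw [← ho, ← Nat.card_zpowers])
      intro u hu
      have : u ∈ Finset.univ.filter fun x : G => x ^ r = 1 := by simpa using hu
      rw [← hE] at this
      exact (Finset.mem_filter.mp this).2
    set P := (b f).ker with hP
    have hPidx : P.index = r := by
      rw [hP, Subgroup.index_ker, show (b f).range = Subgroup.zpowers (b f g) from
        le_antisymm (by rintro _ ⟨x, rfl⟩; exact hval _ (hfr x)) (Subgroup.zpowers_le.mpr ⟨g, rfl⟩),
        Nat.card_zpowers, ho]
    let F : Subgroup P := Subgroup.zpowers ⟨f, halt f⟩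
    have hF : Nat.card F = r := by
      rw [Nat.card_zpowers, ← Subgroup.orderOf_coe]; exact hf
    have hskew : ∀ x y : W, b y x = (b x y)⁻¹ := pairing_skew b halt
    have hkill : ∀ x : P, b x f = 1 := fun x => by
      rw [hskew, show b f x = 1 from x.2, inv_one]
    let bP : P →* P →* G := MonoidHom.mk' (fun x => (b x).comp P.subtype)
      (fun x y => MonoidHom.ext fun z => by simp)
    have hlift : ∀ x : P, F ≤ (bP x).ker := fun x => by
      rw [Subgroup.zpowers_le, MonoidHom.mem_ker]
      exact hkill x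
    let bq : P →* (P ⧸ F) →* G := MonoidHom.mk' (fun x => QuotientGroup.lift F (bP x) (hlift x))
      (fun x y => MonoidHom.ext fun q => by
        obtain ⟨z, rfl⟩ := QuotientGroup.mk_surjective q
        simp [bP])
    have hbq : F ≤ bq.ker := by
      rw [Subgroup.zpowers_le, MonoidHom.mem_ker]
      refine MonoidHom.ext fun q => ?_
      obtain ⟨z, rfl⟩ := QuotientGroup.mk_surjective q
      exact (z.2 : b f z = 1)
    let b' : (P ⧸ F) →* (P ⧸ F) →* G := QuotientGroup.lift F bq hbq
    have halt' : ∀ q, b' q q = 1 := fun q => by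
      obtain ⟨z, rfl⟩ := QuotientGroup.mk_surjective q
      exact halt z
    have hnd' : ∀ q, b' q = 1 → q = 1 := fun q hq => by
      obtain ⟨x, rfl⟩ := QuotientGroup.mk_surjective q
      have hxP : ∀ y : P, b x y = 1 := fun y => DFunLike.congr_fun hq (QuotientGroup.mk y)
      have hxr : b x g ^ r = 1 := by
        rw [← map_pow]
        exact hxP ⟨g ^ r, hPidx ▸ P.pow_index_mem g⟩
      obtain ⟨i, hi⟩ := Subgroup.mem_zpowers_iff.mp (hval _ hxr)
      have hgen : ∀ y : W, ∃ j : ℤ, (g ^ j)⁻¹ * y ∈ P := fun y => by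
        obtain ⟨j, hj⟩ := Subgroup.mem_zpowers_iff.mp (hval _ (hfr y))
        refine ⟨j, ?_⟩
        rw [hP, MonoidHom.mem_ker, map_mul, map_inv, map_zpow, hj, inv_mul_cancel]
      have e : (f ^ i)⁻¹ * (x : W) = 1 := by
        refine hnd _ (MonoidHom.ext fun y => ?_)
        obtain ⟨j, hj⟩ := hgen y
        have h1 : b (f ^ i) y = (b f g ^ i) ^ j := by
          have h := hj
          rw [hP, MonoidHom.mem_ker, map_mul, map_inv, map_zpow, inv_mul_eq_one] at h
          rw [map_zpow, show (b f ^ i) y = b f y ^ i from rfl, ← h, ← zpow_mul, ← zpow_mul, mul_comm]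
        have h2 : b x y = (b x g) ^ j := by
          have h := hxP ⟨_, hj⟩
          rw [map_mul, map_inv, map_zpow, inv_mul_eq_one] at h
          exact h.symm
        rw [map_mul, map_inv, MonoidHom.mul_apply, MonoidHom.inv_apply, MonoidHom.one_apply, h1, h2,
          ← hi, inv_mul_cancel]
      rw [inv_mul_eq_one] at e
      exact (QuotientGroup.eq_one_iff _).mpr ⟨i, Subtype.ext (by
        simpa using e)⟩
    have hWP : Nat.card W = r * r * Nat.card (P ⧸ F) := by
      rw [← P.card_mul_index, hPidx, ← F.card_mul_index, hF, ← Subgroup.index_eq_card]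
      ring
    obtain ⟨e, he⟩ := ih (P ⧸ F) b' halt' hnd' (by
      have : 0 < Nat.card (P ⧸ F) := Nat.card_pos
      have h4 : 4 ≤ r * r := Nat.mul_le_mul hr.two_le hr.two_le
      have := Nat.mul_le_mul_right (Nat.card (P ⧸ F)) h4
      omega)
    exact ⟨r * e, by rw [hWP, he]; ring⟩

theorem exists_card_eq_sq {W : Type u} [CommGroup W] [Finite W] (b : W →* W →* G)
    (halt : ∀ w, b w w = 1) (hnd : ∀ w, b w = 1 → w = 1) : ∃ e, Nat.card W = e * e :=
  exists_card_eq_sq_aux _ W b halt hnd le_rfl

variable {W : Type u} [CommGroup W] [Finite W]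

/-- A completely reducible abelian group has no elements of order a prime square. -/
theorem pow_prime_eq_one_of_cr {R : Subgroup (MulAut W)}
    (hcr : @IsCR R (Additive W) _ _ (autAdd R)) {r : ℕ} (hr : r.Prime) {x : W}
    (hx : x ^ (r * r) = 1) : x ^ r = 1 := by
  classical
  letI := autAdd R
  let U : AddSubgroup (Additive W) := Subgroup.toAddSubgroup (powMonoidHom r : W →* W).range
  have hU : IsInv R U := by
    rintro g v ⟨y, hy⟩
    refine ⟨(g : MulAut W) y, ?_⟩
    show (g : MulAut W) y ^ r = (g : MulAut W) v.toMul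
    rw [← map_pow]
    exact congrArg _ hy
  obtain ⟨Y, -, hinf, hsup⟩ := hcr U hU
  have hstep : ∀ y : W, ∃ y' : W, y ^ r = y' ^ (r * r) := by
    intro y
    have hy : Additive.ofMul y ∈ U ⊔ Y := by rw [hsup]; trivial
    obtain ⟨_, ⟨u, hu⟩, z, hz, huz⟩ := AddSubgroup.mem_sup.mp hy
    refine ⟨u, ?_⟩
    have e : y = (u ^ r) * z.toMul := by
      rw [show u ^ r = _ from hu]
      exact (congrArg Additive.toMul huz).symm
    have hz1 : r • z = 0 := by
      have hmem : r • z ∈ U ⊓ Y := ⟨⟨z.toMul, rfl⟩, Y.nsmul_mem hz r⟩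
      rw [hinf, AddSubgroup.mem_bot] at hmem
      exact hmem
    rw [e, mul_pow, ← pow_mul, show z.toMul ^ r = 1 from congrArg Additive.toMul hz1, mul_one]
  have hiter : ∀ k : ℕ, ∃ w : W, x ^ r = w ^ (r ^ (k + 1)) := by
    intro k
    induction k with
    | zero => exact ⟨x, by rw [pow_one]⟩
    | succ k ih =>
      obtain ⟨w, hw⟩ := ih
      obtain ⟨w', hw'⟩ := hstep w
      refine ⟨w', ?_⟩
      rw [hw, pow_succ' r k, pow_mul, hw', ← pow_mul]
      congr 1
      ring
  set n := Nat.card W with hn
  obtain ⟨w, hw⟩ := hiter n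
  have hn0 : n ≠ 0 := Nat.card_pos.ne'
  have hq : (x ^ r) ^ (n / r ^ n.factorization r) = 1 := by
    have hd : n ∣ r ^ (n + 1) * (n / r ^ n.factorization r) := by
      nth_rewrite 1 [← Nat.ordProj_mul_ordCompl_eq_self n r]
      refine mul_dvd_mul_right (pow_dvd_pow r ?_) _
      have := Nat.factorization_lt r hn0
      omega
    obtain ⟨c, hc⟩ := hd
    rw [hw, ← pow_mul, hc, pow_mul, hn, pow_card_eq_one', one_pow]
  have h2 : (x ^ r) ^ r = 1 := by rw [← pow_mul]; exact hx
  have h3 := pow_gcd_eq_one.mpr ⟨hq, h2⟩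
  have hcop : (n / r ^ n.factorization r).Coprime r := (Nat.coprime_ordCompl hr hn0).symm
  rw [hcop.gcd_eq_one, pow_one] at h3
  exact h3

/-- A group of automorphisms preserving the pairing on a group of order a prime square embeds in the
special linear group. -/
theorem exists_hom_SL (b : W →* W →* G) (halt : ∀ w, b w w = 1) (hnd : ∀ w, b w = 1 → w = 1)
    {r : ℕ} [Fact r.Prime] (hcard : Nat.card W = r * r) (hexp : ∀ w : W, w ^ r = 1)
    (S : Subgroup (MulAut W)) (hS : ∀ g ∈ S, ∀ v w, b (g v) (g w) = b v w) :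
    ∃ f : S →* Matrix.SpecialLinearGroup (Fin 2) (ZMod r), Function.Injective f := by
  classical
  letI : Module (ZMod r) (Additive W) :=
    AddCommGroup.zmodModule (n := r) fun x => hexp (Additive.toMul x)
  haveI : Module.Finite (ZMod r) (Additive W) := Module.Finite.of_finite
  have hk : Module.finrank (ZMod r) (Additive W) = 2 := by
    have h := Module.natCard_eq_pow_finrank (K := ZMod r) (V := Additive W)
    rw [Nat.card_zmod, Nat.card_congr (Additive.ofMul (α := W)).symm, hcard, ← pow_two] at h
    exact (Nat.pow_right_injective (Fact.out : r.Prime).two_le h).symm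
  let e := Module.finBasisOfFinrankEq (ZMod r) (Additive W) hk
  let lin : S →* (Additive W →ₗ[ZMod r] Additive W) :=
    { toFun := fun g => (MonoidHom.toAdditive (g : MulAut W).toMonoidHom).toZModLinearMap r
      map_one' := rfl
      map_mul' := fun g h => rfl }
  let M : S →* Matrix (Fin 2) (Fin 2) (ZMod r) :=
    (LinearMap.toMatrixAlgEquiv e).toMonoidHom.comp lin
  set f := (e 0).toMul
  set g₀ := (e 1).toMul
  have hc1 : b f g₀ ≠ 1 := by
    intro h
    have hf1 : f = 1 := hnd f (by
      refine MonoidHom.ext fun w => ?_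
      have hw := e.sum_repr (Additive.ofMul w)
      rw [Fin.sum_univ_two, ← ZMod.natCast_zmod_val (e.repr (Additive.ofMul w) 0),
        ← ZMod.natCast_zmod_val (e.repr (Additive.ofMul w) 1), Nat.cast_smul_eq_nsmul,
        Nat.cast_smul_eq_nsmul] at hw
      have hw' : w = f ^ (e.repr (Additive.ofMul w) 0).val * g₀ ^ (e.repr (Additive.ofMul w) 1).val :=
        (congrArg Additive.toMul hw).symm
      rw [hw', map_mul, map_pow, map_pow, halt, h, one_pow, one_pow, one_mul, MonoidHom.one_apply])
    exact e.ne_zero 0 (congrArg Additive.ofMul hf1)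
  have hcr : b f g₀ ^ r = 1 := by rw [← map_pow, hexp, map_one]
  have ho : orderOf (b f g₀) = r := orderOf_eq_prime hcr hc1
  have hdet : ∀ g : S, (M g).det = 1 := by
    intro g
    have hval : ∀ j : Fin 2, (g : MulAut W) (e j).toMul = f ^ (M g 0 j).val * g₀ ^ (M g 1 j).val := by
      intro j
      have h := e.sum_repr (Additive.ofMul ((g : MulAut W) (e j).toMul))
      rw [Fin.sum_univ_two] at h
      have hM : ∀ i, M g i j = e.repr (Additive.ofMul ((g : MulAut W) (e j).toMul)) i := fun i =>
        LinearMap.toMatrixAlgEquiv_apply e _ i j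
      rw [← hM, ← hM, ← ZMod.natCast_zmod_val (M g 0 j), ← ZMod.natCast_zmod_val (M g 1 j),
        Nat.cast_smul_eq_nsmul, Nat.cast_smul_eq_nsmul] at h
      exact (congrArg Additive.toMul h).symm
    have h := hS g g.2 f g₀
    rw [hval 0, hval 1] at h
    simp only [map_mul, map_pow, MonoidHom.mul_apply, MonoidHom.pow_apply, halt, one_pow, one_mul,
      mul_one] at h
    rw [pairing_skew b halt f g₀] at h
    set c := b f g₀ with hc
    have hz : c ^ ((((M g 0 0).val : ℤ) * (M g 1 1).val - (M g 1 0).val * (M g 0 1).val) - 1) = 1 := by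
      rw [zpow_sub, zpow_one, mul_inv_eq_one]
      nth_rewrite 2 [← h]
      rw [zpow_sub, zpow_mul, zpow_mul, zpow_natCast, zpow_natCast, zpow_natCast, zpow_natCast,
        inv_pow, inv_pow]
      simp only [← pow_mul, mul_comm (M g 1 1).val, mul_comm (M g 0 1).val]
      exact mul_comm _ _
    rw [← orderOf_dvd_iff_zpow_eq_one, ho, ← ZMod.intCast_zmod_eq_zero_iff_dvd] at hz
    push_cast at hz
    simp only [ZMod.natCast_zmod_val] at hz
    rw [Matrix.det_fin_two]
    linear_combination hz
  refine ⟨{ toFun := fun g => ⟨M g, hdet g⟩, map_one' := Subtype.ext (map_one M),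
            map_mul' := fun g h => Subtype.ext (map_mul M g h) }, fun g h hgh => ?_⟩
  have h1 := (LinearMap.toMatrixAlgEquiv e).injective (congrArg Subtype.val hgh)
  exact Subtype.ext (MulEquiv.ext fun w =>
    congrArg Additive.toMul (DFunLike.congr_fun h1 (Additive.ofMul w)))

end Cfsg.Agent.SqClass
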