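import Cfsg.Agent.Lib.Grp.SqClass.Prim
import Cfsg.Agent.Lib.Grp.SqClass.Pairing
import Cfsg.Agent.Lib.Grp.BaseThree.Main

/-!
# Orders of small solvable linear groups
-/

set_option autoImplicit false
set_option linter.style.haveILetI false

universe u

namespace Cfsg.Agent.SqClass

open BaseTwo (IsInv IsIrr IsCR invAction isCR_invAction isCR_of_isIrr linHom isIrr_range isCR_range
  autAdd)

theorem card_units_end_le {B : Type*} [AddCommGroup B] [Finite B] :
    Nat.card (AddMonoid.End B)ˣ ≤ (Nat.card B - 1).factorial := by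
  classical
  haveI := Fintype.ofFinite B
  let f : (AddMonoid.End B)ˣ → Equiv.Perm {x : B // x ≠ 0} := fun u =>
    Equiv.subtypeEquiv ⟨(u : AddMonoid.End B), ((u⁻¹ : (AddMonoid.End B)ˣ) : AddMonoid.End B),
      fun x => DFunLike.congr_fun (congrArg Units.val (inv_mul_cancel u)) x,
      fun x => DFunLike.congr_fun (congrArg Units.val (mul_inv_cancel u)) x⟩ fun x => by
        refine not_congr ⟨fun h => h ▸ map_zero (u : AddMonoid.End B), fun h => ?_⟩
        have := congrArg ((u⁻¹ : (AddMonoid.End B)ˣ) : AddMonoid.End B) h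
        rw [map_zero] at this
        exact (DFunLike.congr_fun (congrArg Units.val (inv_mul_cancel u)) x).symm.trans this
  refine (Nat.card_le_card_of_injective f fun u v h => ?_).trans_eq ?_
  · refine Units.ext (AddMonoidHom.ext fun x => ?_)
    by_cases hx : x = 0
    · subst hx
      exact (map_zero (u : AddMonoid.End B)).trans (map_zero (v : AddMonoid.End B)).symm
    · exact congrArg Subtype.val (DFunLike.congr_fun h ⟨x, hx⟩)
  · rw [Nat.card_perm, Nat.card_eq_fintype_card, Fintype.card_subtype_compl,
      Fintype.card_subtype_eq, ← Nat.card_eq_fintype_card]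

/-- Splitting along a decomposition. -/
theorem card_le_of_compl {A V : Type u} [Group A] [Finite A] [AddCommGroup V] [Finite V]
    [DistribMulAction A V] [FaithfulSMul A V] (U W : AddSubgroup V) (hU : IsInv A U) (hW : IsInv A W)
    (hinf : U ⊓ W = ⊥) (hsup : U ⊔ W = ⊤) :
    Nat.card V = Nat.card U * Nat.card W ∧ Nat.card A ≤
      Nat.card (@linHom A U _ _ (invAction U hU)).range *
        Nat.card (@linHom A W _ _ (invAction W hW)).range := by
  constructor
  · rw [← Nat.card_prod]
    refine (Nat.card_eq_of_bijective (fun z : U × W => (z.1 : V) + z.2) ⟨?_, ?_⟩).symm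
    · rintro ⟨a, b⟩ ⟨c, d⟩ h
      have e : (a : V) - c = d - b := sub_eq_sub_iff_add_eq_add.mpr (h.trans (add_comm _ _))
      have : (a : V) - c ∈ U ⊓ W := ⟨U.sub_mem a.2 c.2, e ▸ W.sub_mem d.2 b.2⟩
      rw [hinf, AddSubgroup.mem_bot] at this
      refine Prod.ext (Subtype.ext (sub_eq_zero.mp this)) (Subtype.ext ?_)
      rw [this, eq_comm, sub_eq_zero] at e
      exact e.symm
    · intro v
      obtain ⟨y, hy, z, hz, rfl⟩ := AddSubgroup.mem_sup.mp (show v ∈ U ⊔ W by rw [hsup]; trivial)
      exact ⟨(⟨y, hy⟩, ⟨z, hz⟩), rfl⟩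
  · letI := invAction U hU
    let f := (linHom A U).rangeRestrict
    let aW := invAction W hW
    let g := (@linHom A W _ _ aW).rangeRestrict
    rw [← Nat.card_prod]
    haveI : Finite (linHom A U).range := Finite.of_surjective _ f.rangeRestrict_surjective |> fun _ =>
      Finite.of_surjective _ (linHom A U).rangeRestrict_surjective
    haveI : Finite (@linHom A W _ _ aW).range :=
      Finite.of_surjective _ (@linHom A W _ _ aW).rangeRestrict_surjective
    refine Nat.card_le_card_of_injective (fun a => (f a, g a)) fun a b h => ?_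
    refine eq_of_smul_eq_smul fun v : V => ?_
    obtain ⟨y, hy, z, hz, rfl⟩ := AddSubgroup.mem_sup.mp (show v ∈ U ⊔ W by rw [hsup]; trivial)
    rw [smul_add, smul_add]
    congr 1
    · exact congrArg (fun t => ((((t.1 : (AddMonoid.End U)ˣ) : AddMonoid.End U) ⟨y, hy⟩ : U) : V)) h
    · exact congrArg (fun t => ((((t.2 : (AddMonoid.End W)ˣ) : AddMonoid.End W) ⟨z, hz⟩ : W) : V)) h

theorem five_bound_aux : ∀ (n : ℕ) (A V : Type u) [Group A] [Finite A] [Group.IsSolvable A]
    [AddCommGroup V] [Finite V] [DistribMulAction A V] [FaithfulSMul A V],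
    IsCR A V → Nontrivial V → Nat.card V ≤ n → 5 * Nat.card A ≤ Nat.card V ^ 3 := by
  intro n
  induction n with
  | zero => intro A V _ _ _ _ _ _ _ _ _ h; have : 0 < Nat.card V := Nat.card_pos; omega
  | succ n ih =>
    intro A V _ _ _ _ _ _ _ hcr hnt hn
    by_cases hirr : IsIrr A V
    · obtain ⟨v₁, v₂, v₃, hv⟩ := BaseThree.exists_triple hcr
      obtain ⟨f, hf⟩ := BaseThree.fiveTriples_of_hasTriple hirr
        ⟨![v₁, v₂, v₃], fun a ha x => by rw [hv a (ha 0) (ha 1) (ha 2), one_smul]⟩
      have h := Nat.card_le_card_of_injective (fun z : A × Fin 5 => fun k => z.1 • f z.2 k)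
        (fun z z' hz => by
          obtain ⟨h1, h2⟩ := hf z.2 z'.2 (z'.1⁻¹ * z.1) fun k => by
            rw [mul_smul, show z.1 • f z.2 k = z'.1 • f z'.2 k from congrFun hz k, inv_smul_smul]
          have h3 : z'.1⁻¹ * z.1 = 1 := eq_of_smul_eq_smul fun x : V => by rw [h2 x, one_smul]
          exact Prod.ext (inv_mul_eq_one.mp h3).symm h1)
      rw [Nat.card_prod, Nat.card_fin, Nat.card_fun, Nat.card_fin] at h
      omega
    · obtain ⟨U, hU, hU0, hU1⟩ : ∃ U : AddSubgroup V, IsInv A U ∧ U ≠ ⊥ ∧ U ≠ ⊤ := by
        simpa [IsIrr, not_or] using hirr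
      obtain ⟨W, hW, hinf, hsup⟩ := hcr U hU
      obtain ⟨hV, hA⟩ := card_le_of_compl U W hU hW hinf hsup
      have hW1 : W ≠ ⊥ := fun e => hU1 (by rw [e, sup_bot_eq] at hsup; exact hsup)
      haveI := (AddSubgroup.nontrivial_iff_ne_bot U).mpr hU0
      haveI := (AddSubgroup.nontrivial_iff_ne_bot W).mpr hW1
      have h1 : 2 ≤ Nat.card U := Finite.one_lt_card
      have h2 : 2 ≤ Nat.card W := Finite.one_lt_card
      have key : ∀ (X : AddSubgroup V) (hX : IsInv A X), Nat.card X ≤ n → Nontrivial X →
          5 * Nat.card (@linHom A X _ _ (invAction X hX)).range ≤ Nat.card X ^ 3 := by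
        intro X hX hXn hXnt
        letI := invAction X hX
        haveI : Finite (linHom A X).range := Finite.of_surjective _ (linHom A X).rangeRestrict_surjective
        haveI := Group.isSolvable_of_surjective (linHom A X).rangeRestrict_surjective
        haveI : FaithfulSMul (linHom A X).range X :=
          ⟨fun {a b} h => Subtype.ext (Units.ext (AddMonoidHom.ext h))⟩
        exact ih _ X (isCR_range (isCR_invAction hcr X hX)) hXnt hXn
      have := Nat.mul_le_mul_left (Nat.card U) h2
      have := Nat.mul_le_mul_right (Nat.card W) h1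
      have hk1 := key U hU (by omega) inferInstance
      have hk2 := key W hW (by omega) inferInstance
      rw [hV, mul_pow]
      have h3 := Nat.mul_le_mul hk1 hk2
      nlinarith

/-- A bound from five triples in different orbits. -/
theorem five_bound {A V : Type u} [Group A] [Finite A] [Group.IsSolvable A] [AddCommGroup V]
    [Finite V] [Nontrivial V] [DistribMulAction A V] [FaithfulSMul A V] (hcr : IsCR A V) :
    5 * Nat.card A ≤ Nat.card V ^ 3 :=
  five_bound_aux _ A V hcr inferInstance le_rfl

/-! ### Groups on sixteen points -/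

theorem card_units_end_eight {B : Type u} [AddCommGroup B] [Finite B] (hB : Nat.card B = 8)
    (h2 : ∀ x : B, 2 • x = 0) (H : Subgroup (AddMonoid.End B)ˣ) (hH : Group.IsSolvable H) :
    Nat.card H ≤ 84 := by
  classical
  haveI := Fact.mk Nat.prime_two
  letI : Module (ZMod 2) B := AddCommGroup.zmodModule (n := 2) h2
  haveI : Module.Finite (ZMod 2) B := Module.Finite.of_finite
  have hd : Module.finrank (ZMod 2) B = 3 := by
    have h := Module.natCard_eq_pow_finrank (K := ZMod 2) (V := B)
    rw [hB, Nat.card_zmod] at h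
    exact (Nat.pow_right_injective le_rfl (show 2 ^ 3 = _ from h)).symm
  let e := (Module.finBasisOfFinrankEq (ZMod 2) B hd).equivFun
  let I := Fin 3 → ZMod 2
  let ψ : (I ≃ₗ[ZMod 2] I) →* (AddMonoid.End B)ˣ :=
    MonoidHom.toHomUnits
      { toFun := fun g => ((e.trans g).trans e.symm).toLinearMap.toAddMonoidHom
        map_one' := AddMonoidHom.ext fun x => e.symm_apply_apply x
        map_mul' := fun g h => AddMonoidHom.ext fun x => by
          show e.symm (g (h (e x))) = e.symm (g (e (e.symm (h (e x)))))
          rw [e.apply_symm_apply] }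
  have hψ : Function.Injective ψ := fun g h hgh => LinearEquiv.ext fun x => by
    have := DFunLike.congr_fun (congrArg Units.val hgh) (e.symm x)
    change e.symm (g (e (e.symm x))) = e.symm (h (e (e.symm x))) at this
    rw [e.apply_symm_apply] at this
    exact e.symm.injective this
  have hle : Nat.card (AddMonoid.End B)ˣ ≤ 168 := by
    obtain ⟨k, hk, haut⟩ := card_mulAut_elem (M := Multiplicative B) (r := 2)
      (fun a b => mul_comm a b) (fun a => h2 (Multiplicative.toAdd a))
    rw [Nat.card_congr (Multiplicative.toAdd : Multiplicative B ≃ B), hB] at hk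
    obtain rfl : k = 3 := (Nat.pow_right_injective le_rfl (show 2 ^ 3 = _ from hk)).symm
    let f : (AddMonoid.End B)ˣ → MulAut (Multiplicative B) := fun u =>
      AddEquiv.toMultiplicative
        { toFun := (u : AddMonoid.End B)
          invFun := ((u⁻¹ : (AddMonoid.End B)ˣ) : AddMonoid.End B)
          left_inv := fun x => DFunLike.congr_fun (congrArg Units.val (inv_mul_cancel u)) x
          right_inv := fun x => DFunLike.congr_fun (congrArg Units.val (mul_inv_cancel u)) x
          map_add' := map_add _ }
    refine (Nat.card_le_card_of_injective f fun u v h => Units.ext (AddMonoidHom.ext fun x =>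
      congrArg Multiplicative.toAdd (DFunLike.congr_fun h (Multiplicative.ofAdd x)))).trans_eq ?_
    rw [haut]
    decide
  haveI := Fintype.ofFinite B
  haveI : Finite (AddMonoid.End B)ˣ := inferInstance
  by_contra hlt
  have hidx : H.index = 1 := by
    by_contra hne
    have h1 := H.card_mul_index
    have h2 : 2 ≤ H.index := by
      have := Nat.pos_of_ne_zero (Subgroup.index_ne_zero_of_finite (H := H))
      omega
    have := Nat.mul_le_mul_left (Nat.card H) h2
    omega
  have htop := Subgroup.index_eq_one.mp hidx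
  have : Group.IsSolvable (⊤ : Subgroup (I ≃ₗ[ZMod 2] I)) := by
    haveI := hH
    refine Group.isSolvable_of_isSolvable_injective
      (f := (ψ.comp (⊤ : Subgroup (I ≃ₗ[ZMod 2] I)).subtype).codRestrict H fun x => by rw [htop]; trivial)
      fun a b h => Subtype.ext (hψ (congrArg Subtype.val h))
  exact BaseThree.not_isSolvable_of_transv _ (fun i j h => Subgroup.mem_top _) this

/-- A solvable completely reducible group on sixteen points has order at most ninety. -/
theorem card_le_ninety {A V : Type u} [Group A] [Finite A] [Group.IsSolvable A] [AddCommGroup V]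
    [Finite V] [DistribMulAction A V] [FaithfulSMul A V] (hcr : IsCR A V) (hV : Nat.card V = 16)
    (h2 : ∀ x : V, 2 • x = 0) : Nat.card A ≤ 90 := by
  haveI : Nontrivial V := Finite.one_lt_card_iff_nontrivial.mp (by omega)
  haveI := Fact.mk Nat.prime_two
  by_cases hirr : IsIrr A V
  · -- irreducible
    let h := linHom A V
    haveI : Finite h.range := Finite.of_surjective _ h.rangeRestrict_surjective
    have hinj : Function.Injective h.rangeRestrict := fun a b e => eq_of_smul_eq_smul fun x : V =>
      congrArg (fun t : h.range => ((t : (AddMonoid.End V)ˣ) : AddMonoid.End V) x) e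
    refine (Nat.card_le_card_of_injective _ hinj).trans ?_
    haveI hsol : Group.IsSolvable h.range := Group.isSolvable_of_surjective h.rangeRestrict_surjective
    rcases blocks_or_prim h.range hsol (isIrr_range hirr) (p := 2) (a := 4) (by rw [hV]; norm_num) with
      ⟨⟨D⟩⟩ | ⟨⟨P⟩⟩
    · obtain ⟨B, _, _, _, H, n, T, -, -, hn, hVB, -, hT, hA, -⟩ :=
        exists_block_group (isIrr_range hirr) hsol D
      have hB : 2 ≤ Nat.card B := Finite.one_lt_card
      have hH := (Subgroup.card_le_card_group H).trans card_units_end_le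
      have hn4 : n ≤ 4 := by
        by_contra h5
        have := (Nat.pow_le_pow_right (by norm_num : 0 < 2) (Nat.lt_of_not_le h5)).trans
          (Nat.pow_le_pow_left hB n)
        omega
      have hB4 : Nat.card B ≤ 4 := by
        by_contra h5
        have := (Nat.pow_le_pow_left (Nat.lt_of_not_le h5) 2).trans
          (Nat.pow_le_pow_right (by omega : 0 < Nat.card B) hn)
        norm_num at this
        omega
      refine hA.trans ((Nat.mul_le_mul (Nat.pow_le_pow_left hH n) hT).trans ?_)
      interval_cases n <;> interval_cases hb : Nat.card B <;> norm_num [Nat.factorial] at hVB ⊢ <;> omega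
    · obtain ⟨K, _, _, _, Z, _, D, hZ, m, d, hdim, hK, hfin, hidx, hlayer⟩ := P
      have hq : Nat.card Kˣ = 2 ^ m - 1 := by rw [Nat.card_units, hK]
      rcases hlayer with hZC | ⟨⟨L⟩⟩
      · rw [← Subgroup.card_mul_index (Subgroup.centralizer (Z : Set h.range)), ← hZC]
        have hz : Nat.card Z ≤ 2 ^ m - 1 := hq ▸ Nat.card_le_card_of_injective _ D.ι_injective
        rw [← hZC] at hidx
        refine (Nat.mul_le_mul hz hidx).trans ?_
        have hm : m ≤ 4 := Nat.le_of_dvd (by norm_num) ⟨d, hdim⟩
        interval_cases m <;> norm_num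
      · exfalso
        obtain ⟨M, hMn, hZM, hMC, -, W, _, _, hMcard, hW, b, halt, hnd, φ, hker, -, -⟩ := L
        obtain ⟨e, he⟩ := exists_card_eq_sq b halt hnd
        have hm : m ≤ 4 := Nat.le_of_dvd (by norm_num) ⟨d, hdim⟩
        have hW1 : 1 < Nat.card W := by
          by_contra h1
          have : 0 < Nat.card W := Nat.card_pos
          have e1 : Nat.card W = 1 := by omega
          rw [e1, mul_one] at hMcard
          exact hZM.ne (Subgroup.eq_of_le_of_card_ge hZM.le hMcard.le)
        obtain ⟨r, hr, hrW⟩ := Nat.exists_prime_and_dvd hW1.ne'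
        have h1 := BaseTwo.prime_dvd_card_values b hnd hr hrW
        rw [hq] at h1
        rw [hfin, he] at hW
        rw [he] at hrW hW1
        have hd : d ≤ 4 := Nat.le_of_dvd (by norm_num) ⟨m, by rw [hdim, mul_comm]⟩
        have he4 : e ≤ 4 := by
          have : e ≤ d := Nat.mul_self_le_mul_self_iff.mp hW
          omega
        have hre : r ∣ e := (hr.dvd_mul.mp hrW).elim id id
        have hr4 : r ≤ 4 := (Nat.le_of_dvd (by rcases Nat.eq_zero_or_pos e with rfl | h0 <;> omega) hre).trans he4
        have hed : e ≤ d := Nat.mul_self_le_mul_self_iff.mp hW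
        interval_cases m <;> interval_cases d <;> try omega
        all_goals (interval_cases e <;> interval_cases r <;> first | omega | (revert h1 hre hr; norm_num))
  · obtain ⟨U, hU, hU0, hU1⟩ : ∃ U : AddSubgroup V, IsInv A U ∧ U ≠ ⊥ ∧ U ≠ ⊤ := by
      simpa [IsIrr, not_or] using hirr
    obtain ⟨W, hW, hinf, hsup⟩ := hcr U hU
    obtain ⟨hVc, hA⟩ := card_le_of_compl U W hU hW hinf hsup
    refine hA.trans ?_
    have hW1 : W ≠ ⊥ := fun e => hU1 (by rw [e, sup_bot_eq] at hsup; exact hsup)
    haveI := (AddSubgroup.nontrivial_iff_ne_bot U).mpr hU0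
    haveI := (AddSubgroup.nontrivial_iff_ne_bot W).mpr hW1
    have h1 : 2 ≤ Nat.card U := Finite.one_lt_card
    have h1' : 2 ≤ Nat.card W := Finite.one_lt_card
    have key : ∀ (X : AddSubgroup V) (hX : IsInv A X), Nat.card X ≤ 8 →
        Nat.card (@linHom A X _ _ (invAction X hX)).range ≤
          if Nat.card X = 8 then 84 else (Nat.card X - 1).factorial := by
      intro X hX hX8
      letI := invAction X hX
      split_ifs with h8
      · exact card_units_end_eight h8 (fun x => Subtype.ext (h2 x)) _
          (Group.isSolvable_of_surjective (linHom A X).rangeRestrict_surjective)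
      · exact (Subgroup.card_le_card_group _).trans card_units_end_le
    have hU8 : Nat.card U ≤ 8 := by
      have := Nat.mul_le_mul_left (Nat.card U) h1'
      omega
    have hW8 : Nat.card W ≤ 8 := by
      have := Nat.mul_le_mul_right (Nat.card W) h1
      omega
    refine (Nat.mul_le_mul (key U hU hU8) (key W hW hW8)).trans ?_
    rw [hV] at hVc
    generalize Nat.card U = x at h1 hU8 hVc ⊢
    generalize Nat.card W = y at h1' hW8 hVc ⊢
    interval_cases x <;> interval_cases y <;> revert hVc <;> norm_num [Nat.factorial]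

/-! ### Thirty six points -/

theorem card_le_thirtySix {W : Type u} [CommGroup W] [Finite W] (hW : Nat.card W = 36)
    (hexp : ∀ w : W, w ^ 6 = 1) : Nat.card (MulAut W) ≤ 288 := by
  classical
  let U := (powMonoidHom 2 : W →* W).ker
  let U' := (powMonoidHom 3 : W →* W).ker
  have hU : ∀ (f : MulAut W) (n : ℕ) (x : W), x ^ n = 1 → f x ^ n = 1 := fun f n x h => by
    rw [← map_pow, h, map_one]
  have hinj : Function.Injective (fun w : W => ((⟨w ^ 3, by
      show (w ^ 3) ^ 2 = 1; rw [← pow_mul]; exact hexp w⟩ : U),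
      (⟨w ^ 4, by show (w ^ 4) ^ 3 = 1; rw [← pow_mul, show 4 * 3 = 6 * 2 by rfl, pow_mul, hexp, one_pow]⟩ : U'))) := by
    intro w w' h
    have h3 : w ^ 3 = w' ^ 3 := congrArg (fun t : U × U' => (t.1 : W)) h
    have h4 : w ^ 4 = w' ^ 4 := congrArg (fun t : U × U' => (t.2 : W)) h
    rw [pow_succ w 3, pow_succ w' 3, h3] at h4
    exact mul_left_cancel h4
  have hcard := Nat.card_le_card_of_injective _ hinj
  rw [Nat.card_prod, hW] at hcard
  haveI := Fact.mk Nat.prime_two
  haveI := Fact.mk Nat.prime_three
  obtain ⟨k, hk, hautU⟩ := card_mulAut_elem (M := U) (r := 2) (fun a b => mul_comm a b)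
    (fun a => Subtype.ext a.2)
  obtain ⟨l, hl, hautU'⟩ := card_mulAut_elem (M := U') (r := 3) (fun a b => mul_comm a b)
    (fun a => Subtype.ext a.2)
  have hk2 : k ≤ 2 := by
    by_contra h
    have hd := (pow_dvd_pow 2 (Nat.lt_of_not_le h)).trans (hk ▸ Subgroup.card_subgroup_dvd_card U)
    rw [hW] at hd
    norm_num at hd
  have hl2 : l ≤ 2 := by
    by_contra h
    have hd := (pow_dvd_pow 3 (Nat.lt_of_not_le h)).trans (hl ▸ Subgroup.card_subgroup_dvd_card U')
    rw [hW] at hd
    norm_num at hd
  rw [hk, hl] at hcard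
  have hkl : k = 2 ∧ l = 2 := by interval_cases k <;> interval_cases l <;> norm_num at hcard <;> omega
  let res : ∀ n : ℕ, MulAut W → MulAut (powMonoidHom n : W →* W).ker := fun n f =>
    { toFun := fun x => ⟨f x, hU f n x x.2⟩
      invFun := fun x => ⟨f.symm x, hU f.symm n x x.2⟩
      left_inv := fun x => Subtype.ext (f.symm_apply_apply x)
      right_inv := fun x => Subtype.ext (f.apply_symm_apply x)
      map_mul' := fun x y => Subtype.ext (map_mul f (x : W) y) }
  refine (Nat.card_le_card_of_injective (fun f : MulAut W => (res 2 f, res 3 f)) ?_).trans ?_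
  · intro f g h
    refine MulEquiv.ext fun w => ?_
    have h3 : f w ^ 3 = g w ^ 3 := by
      have := congrArg (fun t => ((t.1 ⟨w ^ 3, by
        show (w ^ 3) ^ 2 = 1; rw [← pow_mul]; exact hexp w⟩ : U) : W)) h
      simpa [res] using this
    have h4 : f w ^ 4 = g w ^ 4 := by
      have := congrArg (fun t => ((t.2 ⟨w ^ 4, by
        show (w ^ 4) ^ 3 = 1; rw [← pow_mul, show 4 * 3 = 6 * 2 by rfl, pow_mul, hexp, one_pow]⟩ : U') : W)) h
      simpa [res] using this
    rw [pow_succ (f w) 3, pow_succ (g w) 3, h3] at h4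
    exact mul_left_cancel h4
  · rw [Nat.card_prod, hautU, hautU']
    obtain ⟨rfl, rfl⟩ := hkl
    decide

/-! ### Orders of special linear groups -/

theorem card_SL_three : Nat.card (Matrix.SpecialLinearGroup (Fin 2) (ZMod 3)) = 24 := by
  rw [Nat.card_eq_fintype_card]; decide +kernel

theorem card_SL_five : Nat.card (Matrix.SpecialLinearGroup (Fin 2) (ZMod 5)) = 120 := by
  rw [Nat.card_eq_fintype_card]; decide +kernel

theorem card_SL_seven_le : Nat.card (Matrix.SpecialLinearGroup (Fin 2) (ZMod 7)) ≤ 2401 := by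
  refine (Nat.card_le_card_of_injective (fun g : Matrix.SpecialLinearGroup (Fin 2) (ZMod 7) => fun i j => g.1 i j)
    fun g h e => Subtype.ext (Matrix.ext fun i j => congrFun (congrFun e i) j)).trans_eq ?_
  simp [Nat.card_fun, Nat.card_zmod]

end Cfsg.Agent.SqClass
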