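import Cfsg.Agent.Lib.Grp.SqClass.PrimBound

/-!
# The arithmetic of the class number bound
-/

set_option autoImplicit false

namespace Cfsg.Agent.SqClass

/-- The criterion for a group whose commuting probability is at least `1 / C`. -/
theorem bound_of_crit {p a C N k x : ℕ} (hC : N ≤ C * k) (hx : p ^ a - 1 ≤ x * N)
    (hcrit : 2401 * p ^ 2 * C ≤ 14400 * (p ^ a - 1)) (hC0 : 0 < C) : 49 * p ≤ 60 * (k + x) := by
  refine Nat.pow_le_pow_iff_left two_ne_zero |>.mp ?_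
  refine Nat.le_of_mul_le_mul_right ?_ hC0
  calc (49 * p) ^ 2 * C = 2401 * p ^ 2 * C := by ring
    _ ≤ 14400 * (p ^ a - 1) := hcrit
    _ ≤ 14400 * (x * (C * k)) := Nat.mul_le_mul_left _ (hx.trans (Nat.mul_le_mul_left _ hC))
    _ = 3600 * C * (4 * k * x) := by ring
    _ ≤ 3600 * C * (k + x) ^ 2 := Nat.mul_le_mul_left _ (by nlinarith [sq_nonneg ((k : ℤ) - x)])
    _ = _ := by ring

theorem crit_one {p a : ℕ} (hp : 2 ≤ p) (ha : 2 ≤ a) : 2401 * p ^ 2 * 1 ≤ 14400 * (p ^ a - 1) := by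
  have h := Nat.pow_le_pow_right (by omega : 0 < p) ha
  have h4 : 4 ≤ p ^ 2 := Nat.pow_le_pow_left hp 2
  omega

/-- A sufficient condition for the criterion. -/
theorem crit_of_le {p a C : ℕ} (hp : 11 ≤ p) (ha : 2 ≤ a) (hC : 10 * C ≤ 59 * p ^ (a - 2)) :
    2401 * p ^ 2 * C ≤ 14400 * (p ^ a - 1) := by
  have e : p ^ a = p ^ 2 * p ^ (a - 2) := by rw [← pow_add]; congr 1; omega
  have h121 : 121 ≤ p ^ a := le_trans (Nat.pow_le_pow_left hp 2) (Nat.pow_le_pow_right (by omega) ha)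
  have h : 10 * (2401 * p ^ 2 * C) ≤ 141659 * p ^ a :=
    calc 10 * (2401 * p ^ 2 * C) = 2401 * p ^ 2 * (10 * C) := by ring
      _ ≤ 2401 * p ^ 2 * (59 * p ^ (a - 2)) := Nat.mul_le_mul_left _ hC
      _ = _ := by rw [e]; ring
  omega

theorem sq_of_cube {n T : ℕ} (hT : T ^ 3 ≤ 24 ^ n) : 3 ^ n * (T * T) ≤ 25 ^ n := by
  refine Nat.pow_le_pow_iff_left (by norm_num : (3 : ℕ) ≠ 0) |>.mp ?_
  calc (3 ^ n * (T * T)) ^ 3 = (3 ^ n) ^ 3 * (T ^ 3) ^ 2 := by ring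
    _ ≤ (3 ^ n) ^ 3 * (24 ^ n) ^ 2 := by gcongr
    _ = (3 ^ 3 * 24 ^ 2) ^ n := by rw [mul_pow, ← pow_mul, ← pow_mul, ← pow_mul, ← pow_mul, mul_comm n, mul_comm n]
    _ ≤ (25 ^ 3) ^ n := Nat.pow_le_pow_left (by norm_num) n
    _ = _ := by rw [← pow_mul, ← pow_mul, mul_comm]

/-- The imprimitive case from five numerical facts. -/
theorem block_crit {p b C : ℕ} (hp : 2 ≤ p) (hb : 1 ≤ b)
    (h2 : 40 * C ^ 2 ≤ 59 * p ^ (2 * b - 2)) (h3 : 360 * C ^ 3 ≤ 59 * p ^ (3 * b - 2))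
    (h4 : 5760 * C ^ 4 ≤ 59 * p ^ (4 * b - 2)) (h5 : 3906250 * C ^ 5 ≤ 4779 * p ^ (5 * b - 2))
    (hr : 25 * C ≤ 3 * p ^ b) {n T : ℕ} (hn : 2 ≤ n) (hT : T ^ 3 ≤ 24 ^ (n - 1))
    (hT4 : n ≤ 4 → T ≤ n.factorial) : 10 * (C ^ n * (T * T)) ≤ 59 * p ^ (n * b - 2) := by
  rcases Nat.lt_or_ge n 5 with h | h
  · have hT' := hT4 (by omega)
    have hTT := Nat.mul_le_mul hT' hT'
    interval_cases n <;> norm_num [Nat.factorial] at hTT
    · calc 10 * (C ^ 2 * (T * T)) ≤ 10 * (C ^ 2 * 4) := by gcongr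
        _ = 40 * C ^ 2 := by ring
        _ ≤ _ := h2
    · calc 10 * (C ^ 3 * (T * T)) ≤ 10 * (C ^ 3 * 36) := by gcongr
        _ = 360 * C ^ 3 := by ring
        _ ≤ _ := h3
    · calc 10 * (C ^ 4 * (T * T)) ≤ 10 * (C ^ 4 * 576) := by gcongr
        _ = 5760 * C ^ 4 := by ring
        _ ≤ _ := h4
  · obtain ⟨j, rfl⟩ := Nat.exists_eq_add_of_le h
    have key : ∀ j : ℕ, 10 * (C ^ (5 + j) * 25 ^ (4 + j)) ≤ 59 * 3 ^ (4 + j) * p ^ ((5 + j) * b - 2) := by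
      intro j
      induction j with
      | zero => norm_num; linarith
      | succ j ih =>
        have e : (5 + (j + 1)) * b - 2 = ((5 + j) * b - 2) + b := by
          have : 5 * b ≤ (5 + j) * b := Nat.mul_le_mul_right b (by omega)
          rw [show (5 + (j + 1)) * b = (5 + j) * b + b by ring]
          omega
        calc 10 * (C ^ (5 + (j + 1)) * 25 ^ (4 + (j + 1)))
            = 10 * (C ^ (5 + j) * 25 ^ (4 + j)) * (25 * C) := by ring
          _ ≤ 59 * 3 ^ (4 + j) * p ^ ((5 + j) * b - 2) * (3 * p ^ b) := Nat.mul_le_mul ih hr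
          _ = _ := by rw [e, pow_add]; ring
    have hs := sq_of_cube hT
    rw [show 5 + j - 1 = 4 + j by omega] at hs
    refine Nat.le_of_mul_le_mul_right ?_ (show 0 < 3 ^ (4 + j) by positivity)
    calc 10 * (C ^ (5 + j) * (T * T)) * 3 ^ (4 + j)
        = 10 * (C ^ (5 + j) * (3 ^ (4 + j) * (T * T))) := by ring
      _ ≤ 10 * (C ^ (5 + j) * 25 ^ (4 + j)) := by gcongr
      _ ≤ _ := key j
      _ = _ := by ring

theorem large_prim {p b C : ℕ} (hb : 5 ≤ b) (hC : PrimBound p b C) : 4 * C ≤ 11 ^ (b - 1) := by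
  unfold PrimBound at hC
  rcases hC with h | h | h | h | ⟨rfl, h⟩ | ⟨rfl, h⟩ | ⟨rfl, h⟩ | ⟨h8, h⟩
  · omega
  · omega
  · omega
  · omega
  · norm_num; omega
  · norm_num; omega
  · norm_num; omega
  · have key : ∀ j : ℕ, 4 * (8 + j) ^ 8 ≤ 5 * 11 ^ (7 + j) := by
      intro j
      induction j with
      | zero => norm_num
      | succ j ih =>
        have h1 : (8 * (8 + (j + 1))) ^ 8 ≤ (9 * (8 + j)) ^ 8 := Nat.pow_le_pow_left (by omega) 8
        rw [mul_pow, mul_pow] at h1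
        rw [show 7 + (j + 1) = (7 + j) + 1 by omega, pow_succ 11 (7 + j)]
        generalize (8 + (j + 1)) ^ 8 = y at h1 ⊢
        generalize (8 + j) ^ 8 = z at h1 ih
        generalize 11 ^ (7 + j) = w at ih ⊢
        norm_num at h1
        omega
    obtain ⟨j, rfl⟩ := Nat.exists_eq_add_of_le h8
    have := key j
    rw [show 8 + j - 1 = 7 + j by omega]
    omega

/-- The imprimitive case. -/
theorem imprim_crit {p b C n T : ℕ} (hp : 11 ≤ p) (hC : PrimBound p b C) (hn : 2 ≤ n)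
    (hT : T ^ 3 ≤ 24 ^ (n - 1)) (hT4 : n ≤ 4 → T ≤ n.factorial) :
    10 * (C ^ n * (T * T)) ≤ 59 * p ^ (n * b - 2) := by
  rcases Nat.lt_or_ge b 5 with hb | hb
  · rcases hC with ⟨rfl, h⟩ | ⟨rfl, h⟩ | ⟨rfl, h | ⟨h, h13⟩⟩ | ⟨rfl, h⟩ | ⟨rfl, -⟩ | ⟨rfl, -⟩ | ⟨rfl, -⟩ | ⟨h8, -⟩
    all_goals try omega
    all_goals refine block_crit (by omega) (by omega) ?_ ?_ ?_ ?_ ?_ hn hT hT4
    -- degree one
    · calc 40 * C ^ 2 ≤ 40 * 1 ^ 2 := by gcongr
        _ ≤ _ := by norm_num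
    · calc 360 * C ^ 3 ≤ 360 * 1 ^ 3 := by gcongr
        _ ≤ 59 * 11 ^ (3 * 1 - 2) := by norm_num
        _ ≤ _ := by gcongr
    · calc 5760 * C ^ 4 ≤ 5760 * 1 ^ 4 := by gcongr
        _ ≤ 59 * 11 ^ (4 * 1 - 2) := by norm_num
        _ ≤ _ := by gcongr
    · calc 3906250 * C ^ 5 ≤ 3906250 * 1 ^ 5 := by gcongr
        _ ≤ 4779 * 11 ^ (5 * 1 - 2) := by norm_num
        _ ≤ _ := by gcongr
    · calc 25 * C ≤ 25 * 1 := by gcongr
        _ ≤ 3 * 11 ^ 1 := by norm_num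
        _ ≤ _ := by gcongr
    -- degree two
    · calc 40 * C ^ 2 ≤ 40 * 6 ^ 2 := by gcongr
        _ ≤ 59 * 11 ^ (2 * 2 - 2) := by norm_num
        _ ≤ _ := by gcongr
    · calc 360 * C ^ 3 ≤ 360 * 6 ^ 3 := by gcongr
        _ ≤ 59 * 11 ^ (3 * 2 - 2) := by norm_num
        _ ≤ _ := by gcongr
    · calc 5760 * C ^ 4 ≤ 5760 * 6 ^ 4 := by gcongr
        _ ≤ 59 * 11 ^ (4 * 2 - 2) := by norm_num
        _ ≤ _ := by gcongr
    · calc 3906250 * C ^ 5 ≤ 3906250 * 6 ^ 5 := by gcongr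
        _ ≤ 4779 * 11 ^ (5 * 2 - 2) := by norm_num
        _ ≤ _ := by gcongr
    · calc 25 * C ≤ 25 * 6 := by gcongr
        _ ≤ 3 * 11 ^ 2 := by norm_num
        _ ≤ _ := by gcongr
    -- degree three, small
    · calc 40 * C ^ 2 ≤ 40 * 24 ^ 2 := by gcongr
        _ ≤ 59 * 11 ^ (2 * 3 - 2) := by norm_num
        _ ≤ _ := by gcongr
    · calc 360 * C ^ 3 ≤ 360 * 24 ^ 3 := by gcongr
        _ ≤ 59 * 11 ^ (3 * 3 - 2) := by norm_num
        _ ≤ _ := by gcongr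
    · calc 5760 * C ^ 4 ≤ 5760 * 24 ^ 4 := by gcongr
        _ ≤ 59 * 11 ^ (4 * 3 - 2) := by norm_num
        _ ≤ _ := by gcongr
    · calc 3906250 * C ^ 5 ≤ 3906250 * 24 ^ 5 := by gcongr
        _ ≤ 4779 * 11 ^ (5 * 3 - 2) := by norm_num
        _ ≤ _ := by gcongr
    · calc 25 * C ≤ 25 * 24 := by gcongr
        _ ≤ 3 * 11 ^ 3 := by norm_num
        _ ≤ _ := by gcongr
    -- degree three, large prime
    · calc 40 * C ^ 2 ≤ 40 * 72 ^ 2 := by gcongr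
        _ ≤ 59 * 13 ^ (2 * 3 - 2) := by norm_num
        _ ≤ _ := by gcongr
    · calc 360 * C ^ 3 ≤ 360 * 72 ^ 3 := by gcongr
        _ ≤ 59 * 13 ^ (3 * 3 - 2) := by norm_num
        _ ≤ _ := by gcongr
    · calc 5760 * C ^ 4 ≤ 5760 * 72 ^ 4 := by gcongr
        _ ≤ 59 * 13 ^ (4 * 3 - 2) := by norm_num
        _ ≤ _ := by gcongr
    · calc 3906250 * C ^ 5 ≤ 3906250 * 72 ^ 5 := by gcongr
        _ ≤ 4779 * 13 ^ (5 * 3 - 2) := by norm_num
        _ ≤ _ := by gcongr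
    · calc 25 * C ≤ 25 * 72 := by gcongr
        _ ≤ 3 * 13 ^ 3 := by norm_num
        _ ≤ _ := by gcongr
    -- degree four
    · calc 40 * C ^ 2 ≤ 40 * 720 ^ 2 := by gcongr
        _ ≤ 59 * 11 ^ (2 * 4 - 2) := by norm_num
        _ ≤ _ := by gcongr
    · calc 360 * C ^ 3 ≤ 360 * 720 ^ 3 := by gcongr
        _ ≤ 59 * 11 ^ (3 * 4 - 2) := by norm_num
        _ ≤ _ := by gcongr
    · calc 5760 * C ^ 4 ≤ 5760 * 720 ^ 4 := by gcongr
        _ ≤ 59 * 11 ^ (4 * 4 - 2) := by norm_num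
        _ ≤ _ := by gcongr
    · calc 3906250 * C ^ 5 ≤ 3906250 * 720 ^ 5 := by gcongr
        _ ≤ 4779 * 11 ^ (5 * 4 - 2) := by norm_num
        _ ≤ _ := by gcongr
    · calc 25 * C ≤ 25 * 720 := by gcongr
        _ ≤ 3 * 11 ^ 4 := by norm_num
        _ ≤ _ := by gcongr
  · have h4 : 4 * C ≤ p ^ (b - 1) := (large_prim hb hC).trans (Nat.pow_le_pow_left hp _)
    have hm : ∀ k : ℕ, 1 ≤ k → (4 * C) ^ k ≤ p ^ (k * b - k) := fun k hk => by
      refine (Nat.pow_le_pow_left h4 k).trans_eq ?_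
      rw [← pow_mul, Nat.sub_mul, one_mul, mul_comm]
    have hmono : ∀ i j : ℕ, i ≤ j → p ^ i ≤ p ^ j := fun i j h => Nat.pow_le_pow_right (by omega) h
    refine block_crit (by omega) (by omega) ?_ ?_ ?_ ?_ ?_ hn hT hT4
    · have := hm 2 (by norm_num); rw [mul_pow] at this; norm_num at this; omega
    · have := (hm 3 (by norm_num)).trans (hmono _ (3 * b - 2) (by omega))
      rw [mul_pow] at this; norm_num at this; omega
    · have := (hm 4 (by norm_num)).trans (hmono _ (4 * b - 2) (by omega))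
      rw [mul_pow] at this; norm_num at this; omega
    · have := (hm 5 (by norm_num)).trans (hmono _ (5 * b - 2) (by omega))
      rw [mul_pow] at this; norm_num at this; omega
    · have h1 : 11 * p ^ (b - 1) ≤ p ^ b := by
        calc 11 * p ^ (b - 1) ≤ p * p ^ (b - 1) := Nat.mul_le_mul_right _ hp
          _ = _ := by rw [← pow_succ']; congr 1; omega
      omega

/-- The primitive case of dimension at least three. -/
theorem prim_crit {p b C : ℕ} (hp : 11 ≤ p) (hb : 3 ≤ b) (hC : PrimBound p b C) :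
    2401 * p ^ 2 * C ≤ 14400 * (p ^ b - 1) := by
  rcases Nat.lt_or_ge b 5 with hb5 | hb5
  · rcases hC with ⟨rfl, h⟩ | ⟨rfl, h⟩ | ⟨rfl, h | ⟨h, h13⟩⟩ | ⟨rfl, h⟩ | ⟨rfl, -⟩ | ⟨rfl, -⟩ | ⟨rfl, -⟩ | ⟨h8, -⟩
    all_goals try omega
    · exact crit_of_le hp (by norm_num) (by norm_num; omega)
    · exact crit_of_le hp (by norm_num) (by norm_num; omega)
    · have h121 : 121 ≤ p ^ 2 := Nat.pow_le_pow_left hp 2
      have e : p ^ 4 = p ^ 2 * p ^ 2 := by ring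
      have h1 : 121 * p ^ 2 ≤ p ^ 4 := e ▸ Nat.mul_le_mul_right _ h121
      have h2 : 2401 * p ^ 2 * C ≤ 2401 * p ^ 2 * 720 := Nat.mul_le_mul_left _ h
      omega
  · refine crit_of_le hp (by omega) ?_
    have h4 := large_prim hb5 hC
    have h1 : 11 ^ (b - 1) = 11 * 11 ^ (b - 2) := by rw [← pow_succ']; congr 1; omega
    have h2 : 11 ^ (b - 2) ≤ p ^ (b - 2) := Nat.pow_le_pow_left hp _
    omega

/-- The exact case in dimension two. -/
theorem bound_sym_four {p z k x : ℕ} (hp : 11 ≤ p) (hdvd : z ∣ p - 1) (hk : 4 * z ≤ k)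
    (hx : p ^ 2 - 1 ≤ x * (24 * z)) : 49 * p ≤ 60 * (k + x) := by
  obtain ⟨q, hq⟩ := hdvd
  have hz : 0 < z := Nat.pos_of_ne_zero fun h => by rw [h, zero_mul] at hq; omega
  have hpq : p = z * q + 1 := by omega
  subst hpq
  clear hq
  by_cases hsmall : q ≤ 9 ∧ z ≤ 7
  · obtain ⟨h1, h2⟩ := hsmall
    interval_cases q <;> interval_cases z <;> revert hx hp <;> norm_num <;> intros <;> omega
  refine Nat.le_of_mul_le_mul_left ?_ (show 0 < 2 * z by omega)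
  have hx' : ((z * q + 1 : ℤ)) ^ 2 - 1 ≤ x * (24 * z) := by
    have h1 : 1 ≤ (z * q + 1) ^ 2 := Nat.one_le_pow _ _ (by omega)
    have := (Int.ofNat_le.mpr hx)
    push_cast [Nat.cast_sub h1] at this
    linarith
  have key : (98 : ℤ) * (z * q + 1) * z ≤ 480 * z ^ 2 + 5 * ((z * q + 1 : ℤ) ^ 2 - 1) := by
    rcases Nat.lt_or_ge q 10 with h | h
    · have h8 : 8 ≤ z := by
        by_contra hh
        exact hsmall ⟨by omega, by omega⟩
      interval_cases q <;> push_cast <;> nlinarith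
    · have hq' : (10 : ℤ) ≤ q := by exact_mod_cast h
      have h1 : 0 ≤ (5 * (q : ℤ) - 48) * (q - 10) := mul_nonneg (by linarith) (by linarith)
      nlinarith [mul_nonneg (mul_nonneg (Int.natCast_nonneg z) (Int.natCast_nonneg z)) h1,
        mul_nonneg (Int.natCast_nonneg z) (show (0 : ℤ) ≤ 10 * q - 98 by linarith)]
  have hk' : (4 * z : ℤ) ≤ k := by exact_mod_cast hk
  have : ((2 * z * (49 * (z * q + 1)) : ℕ) : ℤ) ≤ ((2 * z * (60 * (k + x)) : ℕ) : ℤ) := by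
    push_cast
    nlinarith
  exact_mod_cast this

/-- Small primes. -/
theorem bound_small_prime {p a N k x : ℕ} (hp : p.Prime) (hp7 : p ≤ 7) (ha : 2 ≤ a) (hk : 1 ≤ k)
    (hx : p ^ a - 1 ≤ x * N) (h3 : k ≤ 3 → N ≤ 6) (h4 : k ≤ 4 → N ≤ 42) :
    49 * p ≤ 60 * (k + x) := by
  have h2 := Nat.pow_le_pow_right hp.pos ha
  have hx0 : 1 ≤ x := by
    by_contra h
    interval_cases x
    have := Nat.pow_le_pow_left hp.two_le 2
    omega
  rcases Nat.lt_or_ge k 4 with h | h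
  · have hN := Nat.mul_le_mul_left x (h3 (by omega))
    interval_cases p <;> first | omega | exact absurd hp (by norm_num)
  rcases Nat.lt_or_ge k 5 with h' | h'
  · have hN := Nat.mul_le_mul_left x (h4 (by omega))
    interval_cases p <;> first | omega | exact absurd hp (by norm_num)
  · interval_cases p <;> first | omega | exact absurd hp (by norm_num)

end Cfsg.Agent.SqClass
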