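import Cfsg.Agent.Lib.Grp.SqClass.Cpb
import Cfsg.Agent.Lib.Grp.SqClass.PermBound
import Cfsg.Agent.Lib.Grp.BaseTwo.Main

/-!
# Blocks of imprimitivity or a field
-/

set_option autoImplicit false
set_option linter.style.haveILetI false

universe u

namespace Cfsg.Agent.SqClass

open BaseTwo (IsInv IsIrr genRing toEnd toEnd_apply toEnd_mem_genRing conj_mem_genRing genRing_comm
  genRing_reduced exists_pow_idem sum_End_apply linHom invAction isIrr_range)

/-- A system of blocks of imprimitivity. -/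
structure Blocks (A V : Type u) [Group A] [AddCommGroup V] [DistribMulAction A V] where
  ι : Type u
  fin : Fintype ι
  act : MulAction A ι
  trans : @MulAction.IsPretransitive A ι act.toSMul
  nontriv : Nontrivial ι
  π : ι → AddMonoid.End V
  idem : ∀ i, ∀ v : V, π i (π i v) = π i v
  orth : ∀ i j, i ≠ j → ∀ v : V, π i (π j v) = 0
  sum : ∀ v : V, ∑ i, π i v = v
  equiv : ∀ (a : A) (i : ι) (v : V), a • π i v = π (a • i) (a • v)
  ne : ∀ i, π i ≠ 0

variable {V : Type u} [AddCommGroup V] [Finite V] {A : Subgroup (AddMonoid.End V)ˣ}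

/-- Either there are blocks with projections in the ring generated by an abelian normal subgroup,
or this ring is a field. -/
theorem blocks_or_isField' (hirr : IsIrr A V) [Nontrivial V] (Z : Subgroup A) [Z.Normal]
    (hZ : ∀ a ∈ Z, ∀ b ∈ Z, a * b = b * a) :
    (∃ D : Blocks A V, ∀ i, D.π i ∈ genRing Z) ∨ IsField (genRing Z) := by
  classical
  let R := genRing Z
  have hred := genRing_reduced hirr hZ
  by_cases htriv : ∀ e : R, e * e = e → e = 0 ∨ e = 1
  · refine Or.inr { exists_pair_ne := ⟨0, 1, fun h => ?_⟩, mul_comm := fun x y => Subtype.ext (genRing_comm hZ _ x.2 _ y.2), mul_inv_cancel := ?_ }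
    · obtain ⟨v, hv⟩ := exists_ne (0 : V)
      exact hv (congrArg (fun f : R => (f : AddMonoid.End V) v) h).symm
    · intro r hr
      obtain ⟨k, hk0, hk⟩ := exists_pow_idem r
      rcases htriv _ hk with h | h
      · exfalso
        exact hr (Subtype.ext (hred _ r.2 ⟨k, by simpa using congrArg Subtype.val h⟩))
      · exact ⟨r ^ (k - 1), by rw [← pow_succ', Nat.sub_add_cancel hk0, h]⟩
  left
  push Not at htriv
  obtain ⟨e₀, he₀, he₀0, he₀1⟩ := htriv
  have hcomm : ∀ x y : R, x * y = y * x := fun x y => Subtype.ext (genRing_comm hZ _ x.2 _ y.2)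
  let Q : R → Prop := fun e => e * e = e ∧ e ≠ 0 ∧ ∀ f : R, f * f = f → e * f = f → f = 0 ∨ f = e
  let ι := {e : R // Q e}
  let c : A → R → R := fun a r => ⟨toEnd A a * r * toEnd A a⁻¹, conj_mem_genRing a r r.2⟩
  have c_mul : ∀ a r s, c a (r * s) = c a r * c a s := by
    intro a r s
    refine Subtype.ext ?_
    show toEnd A a * (r.1 * s.1) * toEnd A a⁻¹ = (toEnd A a * r.1 * toEnd A a⁻¹) * (toEnd A a * s.1 * toEnd A a⁻¹)
    calc toEnd A a * (r.1 * s.1) * toEnd A a⁻¹
        = toEnd A a * r.1 * (toEnd A a⁻¹ * toEnd A a) * s.1 * toEnd A a⁻¹ := by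
          rw [← map_mul, inv_mul_cancel, map_one]; noncomm_ring
      _ = _ := by noncomm_ring
  have c_comp : ∀ a b r, c (a * b) r = c a (c b r) := by
    intro a b r
    refine Subtype.ext ?_
    show toEnd A (a * b) * r.1 * toEnd A (a * b)⁻¹ = toEnd A a * (toEnd A b * r.1 * toEnd A b⁻¹) * toEnd A a⁻¹
    rw [mul_inv_rev, map_mul, map_mul]
    noncomm_ring
  have c_one : ∀ r, c 1 r = r := fun r => Subtype.ext (by
    show toEnd A 1 * r.1 * toEnd A (1 : A)⁻¹ = r.1
    rw [inv_one, map_one, one_mul, mul_one])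
  have c_zero : ∀ a, c a 0 = 0 := fun a => Subtype.ext (by
    show toEnd A a * 0 * toEnd A a⁻¹ = 0
    rw [mul_zero, zero_mul])
  have hcQ : ∀ a e, Q e → Q (c a e) := by
    intro a e he
    refine ⟨by rw [← c_mul, he.1], fun h => he.2.1 ?_, fun f hf hef => ?_⟩
    · rw [← c_one e, ← inv_mul_cancel a, c_comp, h, c_zero]
    · have h1 : c a⁻¹ f * c a⁻¹ f = c a⁻¹ f := by rw [← c_mul, hf]
      have h2 : e * c a⁻¹ f = c a⁻¹ f := by
        conv_rhs => rw [← hef, c_mul, ← c_comp, inv_mul_cancel, c_one]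
      rcases he.2.2 _ h1 h2 with h | h
      · left
        rw [← c_one f, ← mul_inv_cancel a, c_comp, h, c_zero]
      · right
        conv_rhs => rw [← h, ← c_comp, mul_inv_cancel, c_one]
  letI : MulAction A ι :=
    { smul := fun a e => ⟨c a e.1, hcQ a e.1 e.2⟩
      one_smul := fun e => Subtype.ext (c_one e.1)
      mul_smul := fun a b e => Subtype.ext (c_comp a b e.1) }
  haveI : Fintype ι := Fintype.ofFinite ι
  have horth : ∀ i j : ι, i ≠ j → i.1 * j.1 = 0 := by
    intro i j hij
    have hidem : (i.1 * j.1) * (i.1 * j.1) = i.1 * j.1 := by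
      rw [mul_assoc, ← mul_assoc j.1, hcomm j.1 i.1, mul_assoc i.1 j.1, j.2.1, ← mul_assoc, i.2.1]
    by_contra h0
    have e1 := (i.2.2.2 _ hidem (by rw [← mul_assoc, i.2.1])).resolve_left h0
    have e2 := (j.2.2.2 _ hidem (by rw [hcomm i.1 j.1, ← mul_assoc, j.2.1])).resolve_left h0
    exact hij (Subtype.ext (e1.symm.trans e2))
  have habove : ∀ r : R, r * r = r → r ≠ 0 → ∃ e : ι, r * e.1 = e.1 := by
    intro r hr hr0
    haveI : Fintype R := Fintype.ofFinite R
    obtain ⟨e, hemem, hmin⟩ := Finset.exists_min_image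
      (Finset.univ.filter fun e : R => e * e = e ∧ e ≠ 0 ∧ r * e = e)
      (fun e => (Finset.univ.filter fun f : R => f * f = f ∧ e * f = f).card)
      ⟨r, Finset.mem_filter.mpr ⟨Finset.mem_univ r, hr, hr0, hr⟩⟩
    obtain ⟨he, he0, hre⟩ := (Finset.mem_filter.mp hemem).2
    refine ⟨⟨e, he, he0, fun f hf hef => or_iff_not_imp_left.mpr fun hf0 => ?_⟩, hre⟩
    have hfmem : f ∈ Finset.univ.filter fun e : R => e * e = e ∧ e ≠ 0 ∧ r * e = e := by
      simp only [Finset.mem_filter, Finset.mem_univ, true_and]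
      exact ⟨hf, hf0, by rw [← hef, ← mul_assoc, hre]⟩
    have hsub : (Finset.univ.filter fun g : R => g * g = g ∧ f * g = g) ⊆
        Finset.univ.filter fun g : R => g * g = g ∧ e * g = g := by
      intro g hg
      simp only [Finset.mem_filter, Finset.mem_univ, true_and] at hg ⊢
      exact ⟨hg.1, by rw [← hg.2, ← mul_assoc, hef]⟩
    have heq := Finset.eq_of_subset_of_card_le hsub (hmin f hfmem)
    have : e ∈ Finset.univ.filter fun g : R => g * g = g ∧ f * g = g := by
      rw [heq]; simp [he]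
    rw [Finset.mem_filter] at this
    rw [← this.2.2, hcomm, hef]
  have hidemS : ∀ s : Finset ι, (∑ i ∈ s, i.1) * (∑ i ∈ s, i.1) = ∑ i ∈ s, i.1 := by
    intro s
    rw [Finset.sum_mul]
    refine Finset.sum_congr rfl fun i hi => ?_
    rw [Finset.mul_sum, Finset.sum_eq_single_of_mem i hi fun j _ hj => horth i j (Ne.symm hj), i.2.1]
  have hsum : ∑ i : ι, i.1 = 1 := by
    by_contra hne
    set s : R := ∑ i : ι, i.1
    have h1 : (1 - s) * (1 - s) = 1 - s := by
      rw [sub_mul, one_mul, mul_sub, mul_one, hidemS, sub_self, sub_zero]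
    obtain ⟨e, he⟩ := habove _ h1 (sub_ne_zero.mpr (Ne.symm hne))
    rw [sub_mul, one_mul, sub_eq_self] at he
    refine e.2.2.1 ?_
    rw [← he, Finset.sum_mul, Finset.sum_eq_single_of_mem e (Finset.mem_univ _) fun j _ hj => horth j e hj, e.2.1]
  let π : ι → AddMonoid.End V := fun i => (i.1 : AddMonoid.End V)
  have hπorth : ∀ i j, i ≠ j → ∀ v : V, π i (π j v) = 0 := fun i j hij v => by
    have := congrArg (fun f : R => (f : AddMonoid.End V) v) (horth i j hij)
    exact this
  have hequiv : ∀ (a : A) (i : ι) (v : V), a • π i v = π (a • i) (a • v) := fun a i v => by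
    show a • π i v = a • π i (a⁻¹ • a • v)
    rw [inv_smul_smul]
  haveI : Nontrivial ι := by
    by_contra h
    rw [not_nontrivial_iff_subsingleton] at h
    obtain ⟨e, he⟩ := habove _ he₀ he₀0
    have he1 : e.1 = 1 := by
      rw [← hsum, Finset.sum_eq_single_of_mem e (Finset.mem_univ _) fun j _ hj => absurd (Subsingleton.elim j e) hj]
    rw [he1, mul_one] at he
    exact he₀1 he
  haveI : MulAction.IsPretransitive A ι := by
    refine ⟨fun i j => ?_⟩
    by_contra hno
    push Not at hno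
    let s := Finset.univ.filter (fun k : ι => k ∈ MulAction.orbit A i)
    let σ : R := ∑ k ∈ s, k.1
    let U : AddSubgroup V := ((σ : AddMonoid.End V) : V →+ V).range
    have hσ : (σ : AddMonoid.End V) = ∑ k ∈ s, π k := AddSubmonoidClass.coe_finset_sum _ _
    have hU : IsInv A U := by
      rintro a _ ⟨v, rfl⟩
      refine ⟨a • v, ?_⟩
      rw [hσ]
      show (∑ k ∈ s, π k) (a • v) = a • (∑ k ∈ s, π k) v
      rw [sum_End_apply, sum_End_apply, Finset.smul_sum]
      refine (Finset.sum_bij (fun k _ => a • k) ?_ ?_ ?_ ?_).symm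
      · intro k hk
        simp only [s, Finset.mem_filter, Finset.mem_univ, true_and] at hk ⊢
        exact MulAction.mem_orbit_of_mem_orbit a hk
      · intro k _ l _ h; exact MulAction.injective a h
      · intro k hk
        refine ⟨a⁻¹ • k, ?_, smul_inv_smul a k⟩
        simp only [s, Finset.mem_filter, Finset.mem_univ, true_and] at hk ⊢
        exact MulAction.mem_orbit_of_mem_orbit a⁻¹ hk
      · intro k _; exact hequiv a k v
    have his : i ∈ s := by simp [s, MulAction.mem_orbit_self]
    have hjs : j ∉ s := by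
      simp only [s, Finset.mem_filter, Finset.mem_univ, true_and]
      rintro ⟨a, ha⟩
      exact hno a ha
    rcases hirr U hU with h | h
    · refine i.2.2.1 ?_
      have hz : σ = 0 := Subtype.ext (AddMonoidHom.ext fun v => AddSubgroup.mem_bot.mp (h ▸ ⟨v, rfl⟩))
      have : i.1 * σ = i.1 := by
        rw [Finset.mul_sum, Finset.sum_eq_single_of_mem i his fun k _ hk => horth i k (Ne.symm hk), i.2.1]
      rw [hz, mul_zero] at this
      exact this.symm
    · refine j.2.2.1 ?_
      have hone : σ = 1 := by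
        refine Subtype.ext (AddMonoidHom.ext fun v => ?_)
        obtain ⟨w, rfl⟩ : v ∈ U := h ▸ trivial
        exact congrArg (fun f : R => (f : AddMonoid.End V) w) (hidemS s)
      have : j.1 * σ = 0 := by
        rw [Finset.mul_sum]
        exact Finset.sum_eq_zero fun k hk => horth j k fun h => hjs (h ▸ hk)
      rwa [hone, mul_one] at this
  refine ⟨{ ι := ι, fin := inferInstance, act := inferInstance, trans := inferInstance,
            nontriv := inferInstance, π := π,
            idem := fun i v => congrArg (fun f : R => (f : AddMonoid.End V) v) i.2.1,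
            orth := hπorth, equiv := hequiv, sum := fun v => ?_,
            ne := fun i h => i.2.2.1 (Subtype.ext h) }, fun i => i.1.2⟩
  have h1 : (((∑ i : ι, i.1 : R)) : AddMonoid.End V) = 1 := congrArg Subtype.val hsum
  rw [AddSubmonoidClass.coe_finset_sum] at h1
  rw [← sum_End_apply]
  exact congrArg (fun f : AddMonoid.End V => f v) h1

/-- Either there are blocks, or the ring generated by an abelian normal subgroup is a field. -/
theorem blocks_or_isField (hirr : IsIrr A V) [Nontrivial V] (Z : Subgroup A) [Z.Normal]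
    (hZ : ∀ a ∈ Z, ∀ b ∈ Z, a * b = b * a) : Nonempty (Blocks A V) ∨ IsField (genRing Z) :=
  (blocks_or_isField' hirr Z hZ).imp (fun ⟨D, _⟩ => ⟨D⟩) id

omit [Finite V] in
/-- An element centralising an abelian normal subgroup fixes every block with projection in its
ring. -/
theorem fixes_of_centralizes (D : Blocks A V) {Z : Subgroup A} (hπ : ∀ i, D.π i ∈ genRing Z) {z : A}
    (hz : ∀ w ∈ Z, z * w = w * z) (i : D.ι) : D.act.smul z i = i := by
  letI := D.act
  by_contra h
  change ¬ z • i = i at h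
  refine D.ne i (AddMonoidHom.ext fun v => ?_)
  have hc : toEnd A z * D.π i = D.π i * toEnd A z :=
    BaseTwo.toEnd_commute_genRing hz _ (hπ i)
  have key : ∀ w : V, D.π (z • i) w = D.π i w := by
    intro w
    have e1 := D.equiv z i (z⁻¹ • w)
    rw [smul_inv_smul] at e1
    have e2 := congrArg (fun f : AddMonoid.End V => f (z⁻¹ • w)) hc
    simp only [AddMonoid.End.coe_mul, Function.comp_apply, toEnd_apply, smul_inv_smul] at e2
    exact e1.symm.trans e2
  show D.π i v = 0
  rw [← D.idem i v, ← key (D.π i v)]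
  exact D.orth _ _ h v

omit [Finite V] in
/-- A central element fixes every block with projection in the ring of an abelian normal subgroup. -/
theorem fixes_of_central (D : Blocks A V) {Z : Subgroup A} (hπ : ∀ i, D.π i ∈ genRing Z) {z : A}
    (hz : z ∈ Subgroup.center A) (i : D.ι) : D.act.smul z i = i :=
  fixes_of_centralizes D hπ (fun w _ => (Subgroup.mem_center_iff.mp hz w).symm) i

/-- What a system of blocks gives, together with the central elements fixing all blocks. -/
theorem exists_block_group' (hirr : IsIrr A V) (hsol : Group.IsSolvable A) (D : Blocks A V) :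
    ∃ (B : Type u) (_ : AddCommGroup B) (_ : Finite B) (_ : Nontrivial B)
      (H : Subgroup (AddMonoid.End B)ˣ) (n T : ℕ),
      (IsIrr H B ∧ Group.IsSolvable H ∧ 2 ≤ n ∧ Nat.card V = Nat.card B ^ n ∧
        T ^ 3 ≤ 24 ^ (n - 1) ∧ T ≤ n.factorial ∧ Nat.card A ≤ Nat.card H ^ n * T ∧
        ∀ C, CPB H C → CPB A (C ^ n * (T * T))) ∧
      (∀ z ∈ Subgroup.center A, (∀ i, D.act.smul z i = i) →
        (∀ k : ℕ, z ^ k ≠ 1 → ∀ v : V, v ≠ 0 → z ^ k • v ≠ v) →
        ∃ w ∈ Subgroup.center H, orderOf w = orderOf z ∧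
          ∀ k : ℕ, w ^ k ≠ 1 → ∀ b : B, b ≠ 0 → w ^ k • b ≠ b) ∧
      ∃ K : Subgroup A, K.Normal ∧ K.index ≤ T ∧ ∃ ψ : K →* (Fin n → H), Function.Injective ψ ∧
        (∀ i, ((Pi.evalMonoidHom (fun _ : Fin n => (H : Type u)) i).comp ψ).range.Normal) ∧
        ∃ e : V ≃+ (Fin n → B), ∀ (k : K) (v : V) (i : Fin n),
          e ((k : A) • v) i = ψ k i • e v i := by
  classical
  haveI := hsol
  letI := D.fin
  letI := D.act
  haveI := D.trans
  haveI := D.nontriv
  obtain ⟨i₀⟩ := (inferInstance : Nonempty D.ι)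
  obtain ⟨hidem, horth, hequiv⟩ := And.intro D.idem (And.intro D.orth D.equiv)
  let B : AddSubgroup V := (D.π i₀ : V →+ V).range
  have hB : ∀ x ∈ B, D.π i₀ x = x := by rintro _ ⟨v, rfl⟩; exact hidem i₀ v
  let St := MulAction.stabilizer A i₀
  have hBinv : IsInv St B := by
    rintro ⟨a, ha⟩ _ ⟨v, rfl⟩
    refine ⟨a • v, ?_⟩
    show D.π i₀ (a • v) = a • D.π i₀ v
    rw [hequiv a i₀ v, MulAction.mem_stabilizer_iff.mp ha]
  letI := invAction B hBinv
  have hBirr : IsIrr St B := by
    intro X hX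
    by_cases hX0 : X = ⊥
    · exact Or.inl hX0
    right
    let U : AddSubgroup V := AddSubgroup.closure {y : V | ∃ a : A, ∃ x ∈ X, a • (x : V) = y}
    have hUinv : IsInv A U := by
      intro a v hv
      induction hv using AddSubgroup.closure_induction with
      | mem y hy =>
        obtain ⟨b, x, hx, rfl⟩ := hy
        exact AddSubgroup.subset_closure ⟨a * b, x, hx, mul_smul a b _⟩
      | zero => rw [smul_zero]; exact U.zero_mem
      | add y z _ _ hy hz => rw [smul_add]; exact U.add_mem hy hz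
      | neg y _ hy => rw [smul_neg]; exact U.neg_mem hy
    have hUtop : U = ⊤ := (hirr U hUinv).resolve_left fun hbot => hX0 (by
      rw [eq_bot_iff]
      intro x hx
      have : (x : V) ∈ U := AddSubgroup.subset_closure ⟨1, x, hx, one_smul A _⟩
      rw [hbot, AddSubgroup.mem_bot] at this
      exact AddSubgroup.mem_bot.mpr (Subtype.ext this))
    have key : ∀ y ∈ U, ∃ x ∈ X, (x : V) = D.π i₀ y := by
      intro y hy
      induction hy using AddSubgroup.closure_induction with
      | mem y hy =>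
        obtain ⟨a, x, hx, rfl⟩ := hy
        have e : D.π i₀ (a • (x : V)) = a • D.π (a⁻¹ • i₀) (x : V) := by rw [hequiv, smul_inv_smul]
        by_cases hfix : a • i₀ = i₀
        · refine ⟨(⟨a, hfix⟩ : St) • x, hX _ x hx, ?_⟩
          rw [e, inv_smul_eq_iff.mpr hfix.symm, hB x x.2]
          rfl
        · refine ⟨0, X.zero_mem, ?_⟩
          rw [e, ← hB x x.2, horth _ _ (fun h => hfix (inv_smul_eq_iff.mp h).symm), smul_zero]
          rfl
      | zero => exact ⟨0, X.zero_mem, by rw [map_zero]; rfl⟩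
      | add y z _ _ hy hz =>
        obtain ⟨x, hx, e⟩ := hy
        obtain ⟨x', hx', e'⟩ := hz
        exact ⟨x + x', X.add_mem hx hx', by rw [map_add, ← e, ← e']; rfl⟩
      | neg y _ hy =>
        obtain ⟨x, hx, e⟩ := hy
        exact ⟨-x, X.neg_mem hx, by rw [map_neg, ← e]; rfl⟩
    rw [eq_top_iff]
    intro b _
    obtain ⟨x, hx, e⟩ := key b (by rw [hUtop]; trivial)
    rw [hB b b.2] at e
    rwa [← Subtype.ext e]
  haveI hnontriv : Nontrivial B := by
    rw [AddSubgroup.nontrivial_iff_ne_bot]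
    intro h
    exact D.ne i₀ (AddMonoidHom.ext fun v => AddSubgroup.mem_bot.mp (h ▸ ⟨v, rfl⟩))
  choose t ht using fun i => MulAction.exists_smul_eq A i₀ i
  have hy : ∀ (i : D.ι) (x : V), (t i)⁻¹ • D.π i x ∈ B := fun i x => ⟨(t i)⁻¹ • x, by
    show D.π i₀ _ = _
    rw [hequiv, show (t i)⁻¹ • i = i₀ from inv_smul_eq_iff.mpr (ht i).symm]⟩
  have hV : Nat.card V = Nat.card B ^ Fintype.card D.ι := by
    rw [← Nat.card_eq_fintype_card, ← Nat.card_fun]
    refine Nat.card_congr
      { toFun := fun v i => ⟨(t i)⁻¹ • D.π i v, hy i v⟩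
        invFun := fun f => ∑ i, t i • (f i : V)
        left_inv := fun v => by simpa only [smul_inv_smul] using D.sum v
        right_inv := fun f => funext fun i => Subtype.ext ?_ }
    show (t i)⁻¹ • D.π i (∑ j, t j • (f j : V)) = f i
    rw [map_sum, inv_smul_eq_iff]
    refine (Finset.sum_eq_single i (fun j _ hji => ?_) (by simp)).trans ?_
    · rw [← hB _ (f j).2, hequiv, ht, horth i j hji.symm]
    · rw [← hB _ (f i).2, hequiv, ht, hidem]
  let φ := MulAction.toPermHom A D.ι
  let h := linHom St B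
  have hfix : ∀ (k : φ.ker) (i : D.ι), (k : A) • i = i := fun k i =>
    Equiv.Perm.ext_iff.mp (MonoidHom.mem_ker.mp k.2) i
  have hmem : ∀ (k : φ.ker) (i : D.ι), (t i)⁻¹ * (k : A) * t i ∈ St := fun k i => by
    rw [MulAction.mem_stabilizer_iff, mul_smul, mul_smul, ht, hfix, inv_smul_eq_iff, ht]
  let ψ : φ.ker →* (D.ι → h.range) :=
    MonoidHom.mk' (fun k i => h.rangeRestrict ⟨_, hmem k i⟩) fun a b => funext fun i => by
      show _ = h.rangeRestrict _ * h.rangeRestrict _
      rw [← map_mul]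
      congr 1
      refine Subtype.ext ?_
      show (t i)⁻¹ * ((a : A) * (b : A)) * t i = ((t i)⁻¹ * (a : A) * t i) * ((t i)⁻¹ * (b : A) * t i)
      group
  have hψ : Function.Injective ψ := by
    rw [injective_iff_map_eq_one]
    intro k hk
    refine Subtype.ext (Subtype.ext (Units.ext (AddMonoidHom.ext fun x => ?_)))
    show (k : A) • x = x
    rw [← D.sum x, Finset.smul_sum]
    refine Finset.sum_congr rfl fun i _ => ?_
    have e := congrArg (fun F => ((F i : (AddMonoid.End B)ˣ) : AddMonoid.End B) ⟨_, hy i x⟩) hk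
    have e' : ((t i)⁻¹ * (k : A) * t i) • ((t i)⁻¹ • D.π i x) = (t i)⁻¹ • D.π i x :=
      congrArg Subtype.val e
    rw [mul_smul, mul_smul, smul_inv_smul] at e'
    exact MulAction.injective _ e'
  haveI : Finite h.range := Finite.of_surjective _ h.rangeRestrict_surjective
  have hT : Nat.card φ.range ≤ (Fintype.card D.ι).factorial := by
    refine (Subgroup.card_le_card_group _).trans_eq ?_
    rw [Nat.card_perm, Nat.card_eq_fintype_card]
  have hcent : ∀ z ∈ Subgroup.center A, (∀ i, D.act.smul z i = i) →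
      (∀ k : ℕ, z ^ k ≠ 1 → ∀ v : V, v ≠ 0 → z ^ k • v ≠ v) →
      ∃ w ∈ Subgroup.center h.range, orderOf w = orderOf z ∧
        ∀ k : ℕ, w ^ k ≠ 1 → ∀ b : B, b ≠ 0 → w ^ k • b ≠ b := by
    intro z hz hfixz hfpf
    let zs : St := ⟨z, hfixz i₀⟩
    have hpow : ∀ (k : ℕ) (b : B), ((h.rangeRestrict zs ^ k) • b : B).1 = z ^ k • (b : V) := by
      intro k b
      rw [← map_pow]
      rfl
    have hone : ∀ k : ℕ, h.rangeRestrict zs ^ k = 1 ↔ z ^ k = 1 := by
      intro k
      constructor
      · intro hk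
        by_contra hzk
        obtain ⟨b, hb⟩ := exists_ne (0 : B)
        have e := hpow k b
        rw [hk, one_smul] at e
        exact hfpf k hzk b (fun h0 => hb (Subtype.ext h0)) e.symm
      · intro hk
        have : zs ^ k = 1 := Subtype.ext (by simpa using hk)
        rw [← map_pow, this, map_one]
    refine ⟨h.rangeRestrict zs, ?_, orderOf_eq_orderOf_iff.mpr hone, fun k hk b hb e => ?_⟩
    · rw [Subgroup.mem_center_iff]
      intro y
      obtain ⟨x, rfl⟩ := h.rangeRestrict_surjective y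
      rw [← map_mul, ← map_mul]
      congr 1
      exact Subtype.ext (Subgroup.mem_center_iff.mp hz x)
    · refine hfpf k (fun h1 => hk ((hone k).mpr h1)) b (fun h0 => hb (Subtype.ext h0)) ?_
      rw [← hpow k b, e]
  have hnorm : ∀ j : D.ι, ((Pi.evalMonoidHom (fun _ : D.ι => (h.range : Type u)) j).comp ψ).range.Normal := by
    intro j
    refine ⟨?_⟩
    rintro _ ⟨k, rfl⟩ y
    obtain ⟨s, rfl⟩ := h.rangeRestrict_surjective y
    have hk : t j * ((s : A) * ((t j)⁻¹ * (k : A) * t j) * (s : A)⁻¹) * (t j)⁻¹ ∈ φ.ker := by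
      exact Subgroup.Normal.conj_mem inferInstance _ (Subgroup.Normal.conj_mem inferInstance _
        (by simpa using Subgroup.Normal.conj_mem (H := φ.ker) inferInstance _ k.2 (t j)⁻¹) (s : A)) (t j)
    refine ⟨⟨_, hk⟩, ?_⟩
    show h.rangeRestrict _ = h.rangeRestrict s * h.rangeRestrict _ * (h.rangeRestrict s)⁻¹
    rw [← map_inv, ← map_mul, ← map_mul]
    congr 1
    refine Subtype.ext ?_
    show (t j)⁻¹ * (t j * ((s : A) * ((t j)⁻¹ * (k : A) * t j) * (s : A)⁻¹) * (t j)⁻¹) * t j =
      (s : A) * ((t j)⁻¹ * (k : A) * t j) * (s : A)⁻¹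
    group
  refine ⟨B, inferInstance, inferInstance, hnontriv, h.range, Fintype.card D.ι, Nat.card φ.range,
    ⟨isIrr_range hBirr, Group.isSolvable_of_surjective h.rangeRestrict_surjective,
    Fintype.one_lt_card, hV, ?_, hT, ?_, fun C hC => ?_⟩, hcent,
    φ.ker, inferInstance, le_of_eq (Subgroup.index_ker φ),
    (MonoidHom.mk' (fun g : D.ι → h.range => fun j => g ((Fintype.equivFin D.ι).symm j))
      fun _ _ => rfl).comp ψ, fun a b e => hψ (funext fun i => by
        have := congrFun e (Fintype.equivFin D.ι i)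
        simpa using this), fun i => hnorm _, ?_⟩
  · have := dixon φ.range (Group.isSolvable_of_surjective φ.rangeRestrict_surjective)
    rwa [Nat.card_eq_fintype_card (α := D.ι)] at this
  · rw [← φ.ker.card_mul_index, Subgroup.index_ker]
    refine Nat.mul_le_mul_right _ ((Nat.card_le_card_of_injective ψ hψ).trans_eq ?_)
    rw [Nat.card_fun, Nat.card_eq_fintype_card (α := D.ι)]
  · have h1 := cpb_of_injective ψ hψ (cpb_pi (ι := D.ι) hC)
    rw [Nat.card_eq_fintype_card (α := D.ι)] at h1
    exact cpb_of_subgroup_le φ.ker h1 (le_of_eq (Subgroup.index_ker φ))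
  · let ε := Fintype.equivFin D.ι
    refine ⟨AddEquiv.ofBijective (AddMonoidHom.mk'
      (fun v j => (⟨(t (ε.symm j))⁻¹ • D.π (ε.symm j) v, hy _ v⟩ : B))
      fun v w => funext fun j => Subtype.ext ?_) ?_, fun k v j => Subtype.ext ?_⟩
    · show (t (ε.symm j))⁻¹ • D.π (ε.symm j) (v + w) = _
      rw [map_add, smul_add]
      rfl
    · refine (Nat.bijective_iff_injective_and_card _).mpr ⟨fun v w e => ?_, ?_⟩
      · rw [← D.sum v, ← D.sum w]
        refine Finset.sum_congr rfl fun i _ => ?_
        have h1 : (t (ε.symm (ε i)))⁻¹ • D.π (ε.symm (ε i)) v =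
            (t (ε.symm (ε i)))⁻¹ • D.π (ε.symm (ε i)) w := congrArg Subtype.val (congrFun e (ε i))
        rw [Equiv.symm_apply_apply] at h1
        exact MulAction.injective _ h1
      · rw [hV, Nat.card_fun, Nat.card_fin]
    · show (t (ε.symm j))⁻¹ • D.π (ε.symm j) ((k : A) • v) =
        ((t (ε.symm j))⁻¹ * (k : A) * t (ε.symm j)) • ((t (ε.symm j))⁻¹ • D.π (ε.symm j) v)
      rw [mul_smul, mul_smul, smul_inv_smul, hequiv (k : A), hfix]

/-- What a system of blocks gives. -/
theorem exists_block_group (hirr : IsIrr A V) (hsol : Group.IsSolvable A) (D : Blocks A V) :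
    ∃ (B : Type u) (_ : AddCommGroup B) (_ : Finite B) (_ : Nontrivial B)
      (H : Subgroup (AddMonoid.End B)ˣ) (n T : ℕ),
      IsIrr H B ∧ Group.IsSolvable H ∧ 2 ≤ n ∧ Nat.card V = Nat.card B ^ n ∧
        T ^ 3 ≤ 24 ^ (n - 1) ∧ T ≤ n.factorial ∧ Nat.card A ≤ Nat.card H ^ n * T ∧
        ∀ C, CPB H C → CPB A (C ^ n * (T * T)) := by
  obtain ⟨B, i1, i2, i3, H, n, T, h, -, -⟩ := exists_block_group' hirr hsol D
  exact ⟨B, i1, i2, i3, H, n, T, h⟩

end Cfsg.Agent.SqClass
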