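import Mathlib
import Cfsg.Agent.S4200

/-!
# Bounding the reciprocal of the commuting probability

`CPB G C` says `|G| ≤ C * k(G)`.
-/

set_option autoImplicit false

namespace Cfsg.Agent.SqClass

/-- The order is at most `C` times the class number. -/
def CPB (G : Type*) [Group G] (C : ℕ) : Prop := Nat.card G ≤ C * Nat.card (ConjClasses G)

variable {G H : Type*} [Group G] [Group H]

theorem CPB.mono {C C' : ℕ} (h : CPB G C) (hC : C ≤ C') : CPB G C' :=
  h.trans (Nat.mul_le_mul_right _ hC)

theorem card_conjClasses_congr (e : G ≃* H) :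
    Nat.card (ConjClasses G) = Nat.card (ConjClasses H) :=
  Nat.card_eq_of_bijective (ConjClasses.map (e : G →* H))
    ⟨fun c d h => by
      obtain ⟨x, rfl⟩ := ConjClasses.exists_rep c
      obtain ⟨y, rfl⟩ := ConjClasses.exists_rep d
      change ConjClasses.mk (e x) = ConjClasses.mk (e y) at h
      rw [ConjClasses.mk_eq_mk_iff_isConj] at h ⊢
      simpa using (e.symm : H →* G).map_isConj h,
    ConjClasses.map_surjective e.surjective⟩

theorem cpb_congr (e : G ≃* H) {C : ℕ} (h : CPB H C) : CPB G C := by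
  unfold CPB
  rw [Nat.card_congr e.toEquiv, card_conjClasses_congr e]
  exact h

theorem cpb_of_comm [Finite G] (h : ∀ a b : G, a * b = b * a) : CPB G 1 := by
  unfold CPB
  rw [one_mul]
  refine Nat.card_le_card_of_injective ConjClasses.mk fun a b hab => ?_
  obtain ⟨c, hc⟩ := isConj_iff.mp (ConjClasses.mk_eq_mk_iff_isConj.mp hab)
  rw [← hc, h c, mul_inv_cancel_right]

theorem one_le_classes [Finite G] : 1 ≤ Nat.card (ConjClasses G) := Nat.card_pos

theorem cpb_of_card_le [Finite G] {C : ℕ} (h : Nat.card G ≤ C) : CPB G C :=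
  h.trans (Nat.le_mul_of_pos_right _ one_le_classes)

/-- Passing to an overgroup costs the square of the index. -/
theorem cpb_of_subgroup [Finite G] (K : Subgroup G) {C : ℕ} (h : CPB K C) :
    CPB G (C * (K.index * K.index)) := by
  have h1 := (Cfsg.Agent.S4200.result K).1
  unfold CPB at h ⊢
  calc Nat.card G = Nat.card K * K.index := K.card_mul_index.symm
    _ ≤ C * (K.index * Nat.card (ConjClasses G)) * K.index :=
        Nat.mul_le_mul_right _ (h.trans (Nat.mul_le_mul_left _ h1))
    _ = _ := by ring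

theorem cpb_of_subgroup_le [Finite G] (K : Subgroup G) {C i : ℕ} (h : CPB K C) (hi : K.index ≤ i) :
    CPB G (C * (i * i)) :=
  (cpb_of_subgroup K h).mono (Nat.mul_le_mul_left _ (Nat.mul_le_mul hi hi))

/-- Subgroups inherit the bound. -/
theorem cpb_subgroup [Finite G] (K : Subgroup G) {C : ℕ} (h : CPB G C) : CPB K C := by
  have h1 := (Cfsg.Agent.S4200.result K).2.1
  have hpos : 0 < K.index := Nat.pos_of_ne_zero Subgroup.index_ne_zero_of_finite
  unfold CPB at h ⊢
  refine Nat.le_of_mul_le_mul_right ?_ hpos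
  calc Nat.card K * K.index = Nat.card G := K.card_mul_index
    _ ≤ C * (K.index * Nat.card (ConjClasses K)) := h.trans (Nat.mul_le_mul_left _ h1)
    _ = _ := by ring

theorem cpb_of_injective [Finite G] (f : H →* G) (hf : Function.Injective f) {C : ℕ} (h : CPB G C) :
    CPB H C :=
  cpb_congr (MonoidHom.ofInjective hf) (cpb_subgroup f.range h)

/-- Powers of a group. -/
theorem cpb_pi [Finite G] {ι : Type*} [Finite ι] {C : ℕ} (h : CPB G C) :
    CPB (ι → G) (C ^ Nat.card ι) := by
  classical
  haveI := Fintype.ofFinite ι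
  let F : ConjClasses (ι → G) → (ι → ConjClasses G) :=
    Quotient.lift (fun f i => ConjClasses.mk (f i)) fun f g hfg => funext fun i =>
      ConjClasses.mk_eq_mk_iff_isConj.mpr ((Pi.evalMonoidHom (fun _ : ι => G) i).map_isConj hfg)
  have hF : Function.Surjective F := fun c =>
    ⟨ConjClasses.mk fun i => (c i).out, funext fun i => Quotient.out_eq (c i)⟩
  have h1 := Nat.card_le_card_of_surjective F hF
  rw [Nat.card_fun] at h1
  unfold CPB at h ⊢
  rw [Nat.card_fun]
  calc Nat.card G ^ Nat.card ι ≤ (C * Nat.card (ConjClasses G)) ^ Nat.card ι :=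
        Nat.pow_le_pow_left h _
    _ = C ^ Nat.card ι * Nat.card (ConjClasses G) ^ Nat.card ι := mul_pow _ _ _
    _ ≤ _ := Nat.mul_le_mul_left _ h1

/-! ### Central subgroups -/

variable (Z : Subgroup G)

theorem conj_eq_of_mem_center {x c : G} (hx : x ∈ Subgroup.center G) : c * x * c⁻¹ = x := by
  rw [Subgroup.mem_center_iff.mp hx c, mul_inv_cancel_right]

theorem card_le_classes_of_central [Finite G] (hZ : Z ≤ Subgroup.center G) :
    Nat.card Z ≤ Nat.card (ConjClasses G) := by
  refine Nat.card_le_card_of_injective (fun z : Z => ConjClasses.mk (z : G)) fun a b hab => ?_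
  obtain ⟨c, hc⟩ := isConj_iff.mp (ConjClasses.mk_eq_mk_iff_isConj.mp hab)
  rw [conj_eq_of_mem_center (hZ a.2)] at hc
  exact Subtype.ext hc

theorem cpb_index_of_central [Finite G] (hZ : Z ≤ Subgroup.center G) : CPB G Z.index := by
  unfold CPB
  rw [← Z.card_mul_index, mul_comm]
  exact Nat.mul_le_mul_left _ (card_le_classes_of_central Z hZ)

/-- Classes above a central subgroup, counted with a homomorphism to an abelian group. -/
theorem card_mul_classes_quotient_le [Finite G] [Z.Normal] (hZ : Z ≤ Subgroup.center G) {M : Type*}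
    [CommGroup M] (δ : G →* M) {b : ℕ} (hb : Nat.card {z : Z // δ z = 1} ≤ b) :
    Nat.card Z * (b + (Nat.card (ConjClasses (G ⧸ Z)) - 1)) ≤ b * Nat.card (ConjClasses G) := by
  classical
  haveI := Fintype.ofFinite Z
  haveI := Fintype.ofFinite (ConjClasses G)
  haveI := Fintype.ofFinite (ConjClasses (G ⧸ Z))
  let f := ConjClasses.map (QuotientGroup.mk' Z)
  have hone : Nat.card Z ≤ (Finset.univ.filter fun c : ConjClasses G => f c = ConjClasses.mk 1).card := by
    rw [Nat.card_eq_fintype_card, ← Finset.card_univ]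
    refine Finset.card_le_card_of_injOn (fun z : Z => ConjClasses.mk (z : G)) ?_ ?_
    · intro z _
      simp only [Finset.coe_filter, Finset.mem_univ, true_and, Set.mem_ofPred_eq]
      show ConjClasses.mk (QuotientGroup.mk' Z (z : G)) = _
      rw [show QuotientGroup.mk' Z (z : G) = 1 from (QuotientGroup.eq_one_iff _).mpr z.2]
    · intro a _ c _ hac
      obtain ⟨g, hg⟩ := isConj_iff.mp (ConjClasses.mk_eq_mk_iff_isConj.mp hac)
      rw [conj_eq_of_mem_center (hZ a.2)] at hg
      exact Subtype.ext hg
  have hfib : ∀ q, Nat.card Z ≤ b * (Finset.univ.filter fun c : ConjClasses G => f c = q).card := by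
    intro q
    obtain ⟨c₀, rfl⟩ := ConjClasses.map_surjective (f := QuotientGroup.mk' Z)
      (QuotientGroup.mk'_surjective Z) q
    obtain ⟨x, rfl⟩ := ConjClasses.exists_rep c₀
    rw [Nat.card_eq_fintype_card, ← Finset.card_univ]
    refine Finset.card_le_mul_card_image_of_maps_to (f := fun t : Z => ConjClasses.mk (x * t)) ?_ b ?_
    · intro t _
      simp only [Finset.mem_filter, Finset.mem_univ, true_and]
      show ConjClasses.mk (QuotientGroup.mk' Z (x * t)) = ConjClasses.mk (QuotientGroup.mk' Z x)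
      rw [map_mul, show QuotientGroup.mk' Z (t : G) = 1 from (QuotientGroup.eq_one_iff _).mpr t.2,
        mul_one]
    · intro c _
      rcases (Finset.univ.filter fun t : Z => ConjClasses.mk (x * (t : G)) = c).eq_empty_or_nonempty
        with he | ⟨t₀, ht₀⟩
      · rw [he]; simp
      refine le_trans ?_ hb
      rw [Nat.card_eq_fintype_card, Fintype.card_subtype]
      refine Finset.card_le_card_of_injOn (fun t => t₀⁻¹ * t) ?_ (fun a _ c _ h => mul_left_cancel h)
      intro t ht
      simp only [Finset.coe_filter, Finset.mem_filter, Finset.mem_univ, true_and,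
        Set.mem_ofPred_eq] at ht ht₀ ⊢
      obtain ⟨g, hg⟩ := isConj_iff.mp (ConjClasses.mk_eq_mk_iff_isConj.mp (ht₀.trans ht.symm))
      have e := congrArg δ hg
      rw [map_mul, map_mul, map_inv, mul_inv_cancel_comm, map_mul, map_mul, mul_right_inj] at e
      rw [Subgroup.coe_mul, map_mul, Subgroup.coe_inv, map_inv, e, inv_mul_cancel]
  have hsum : Nat.card (ConjClasses G) =
      ∑ q, (Finset.univ.filter fun c : ConjClasses G => f c = q).card := by
    rw [Nat.card_eq_fintype_card, ← Finset.card_univ]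
    exact Finset.card_eq_sum_card_fiberwise fun _ _ => Finset.mem_univ _
  rw [hsum, ← Finset.add_sum_erase _ _ (Finset.mem_univ (ConjClasses.mk (1 : G ⧸ Z))), mul_add,
    mul_add, Finset.mul_sum]
  refine Nat.add_le_add ?_ ?_
  · rw [mul_comm]; exact Nat.mul_le_mul_left _ hone
  · refine le_trans ?_ (Finset.card_nsmul_le_sum _ _ _ fun q _ => hfib q)
    rw [Finset.card_erase_of_mem (Finset.mem_univ _), Finset.card_univ, smul_eq_mul,
      ← Nat.card_eq_fintype_card, mul_comm]

/-- Pairs in common cyclic subgroups of the quotient lift to commuting pairs. -/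
theorem card_sq_mul_pairs_le [Finite G] [Z.Normal] (hZ : Z ≤ Subgroup.center G) :
    Nat.card Z * Nat.card Z *
        Nat.card {u : (G ⧸ Z) × (G ⧸ Z) // ∃ w : G ⧸ Z, ∃ i j : ℕ, w ^ i = u.1 ∧ w ^ j = u.2} ≤
      Nat.card (ConjClasses G) * Nat.card G := by
  rw [← card_comm_eq_card_conjClasses_mul_card, ← Nat.card_prod, ← Nat.card_prod]
  let T := {u : (G ⧸ Z) × (G ⧸ Z) // ∃ w : G ⧸ Z, ∃ i j : ℕ, w ^ i = u.1 ∧ w ^ j = u.2}
  have hl : ∀ u : T, ∃ g : G, ∃ i j : ℕ,
      (QuotientGroup.mk (g ^ i) : G ⧸ Z) = u.1.1 ∧ (QuotientGroup.mk (g ^ j) : G ⧸ Z) = u.1.2 := by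
    rintro ⟨u, w, i, j, h1, h2⟩
    obtain ⟨g, rfl⟩ := QuotientGroup.mk_surjective w
    exact ⟨g, i, j, h1, h2⟩
  choose g i j hi hj using hl
  have hc : ∀ (s t : Z) (x y : G), Commute x y → Commute (x * s) (y * t) := fun s t x y h =>
    Commute.mul_left (h.mul_right (Subgroup.mem_center_iff.mp (hZ t.2) x))
      (show (s : G) * (y * t) = y * t * s from (Subgroup.mem_center_iff.mp (hZ s.2) _).symm)
  refine Nat.card_le_card_of_injective (fun a : (Z × Z) × T =>
    (⟨(g a.2 ^ i a.2 * a.1.1, g a.2 ^ j a.2 * a.1.2), hc a.1.1 a.1.2 _ _ (Commute.pow_pow_self _ _ _)⟩ :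
      {p : G × G // Commute p.1 p.2})) ?_
  rintro ⟨⟨s, t⟩, u⟩ ⟨⟨s', t'⟩, u'⟩ h
  have h1 := congrArg (fun p : {p : G × G // Commute p.1 p.2} => p.1.1) h
  have h2 := congrArg (fun p : {p : G × G // Commute p.1 p.2} => p.1.2) h
  simp only at h1 h2
  have hu : u = u' := by
    refine Subtype.ext (Prod.ext ?_ ?_)
    · have e := congrArg (QuotientGroup.mk : G → G ⧸ Z) h1
      rwa [QuotientGroup.mk_mul_of_mem _ s.2, QuotientGroup.mk_mul_of_mem _ s'.2, hi, hi] at e
    · have e := congrArg (QuotientGroup.mk : G → G ⧸ Z) h2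
      rwa [QuotientGroup.mk_mul_of_mem _ t.2, QuotientGroup.mk_mul_of_mem _ t'.2, hj, hj] at e
  subst hu
  rw [Subtype.ext (mul_left_cancel h1), Subtype.ext (mul_left_cancel h2)]

/-! ### Normal subgroups -/

theorem card_classes_quotient_le [Finite G] (N : Subgroup G) [N.Normal] :
    Nat.card (ConjClasses (G ⧸ N)) ≤ Nat.card (ConjClasses G) :=
  Nat.card_le_card_of_surjective _ (ConjClasses.map_surjective (QuotientGroup.mk'_surjective N))

/-- Classes of the quotient together with the nontrivial classes inside the normal subgroup. -/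
theorem exists_classes_bound [Finite G] (N : Subgroup G) [N.Normal] :
    ∃ x : ℕ, Nat.card (ConjClasses (G ⧸ N)) + x ≤ Nat.card (ConjClasses G) ∧
      Nat.card N - 1 ≤ x * (Subgroup.centralizer (N : Set G)).index := by
  classical
  haveI := Fintype.ofFinite G
  let f := ConjClasses.map (QuotientGroup.mk' N)
  let S : Finset (ConjClasses G) :=
    Finset.univ.filter fun c => f c = ConjClasses.mk 1 ∧ c ≠ ConjClasses.mk 1
  refine ⟨S.card, ?_, ?_⟩
  · have hsurj := ConjClasses.map_surjective (f := QuotientGroup.mk' N) (QuotientGroup.mk'_surjective N)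
    choose g hg using hsurj
    let g' : ConjClasses (G ⧸ N) → ConjClasses G := fun q =>
      if q = ConjClasses.mk 1 then ConjClasses.mk 1 else g q
    have hg' : ∀ q, f (g' q) = q := fun q => by
      by_cases h : q = ConjClasses.mk 1
      · simp only [g', if_pos h]
        rw [h]
        exact congrArg ConjClasses.mk (map_one (QuotientGroup.mk' N))
      · simp only [g', if_neg h]
        exact hg q
    have hdisj : Disjoint (Finset.univ.image g') S := by
      rw [Finset.disjoint_left]
      intro c hc hcS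
      obtain ⟨q, -, rfl⟩ := Finset.mem_image.mp hc
      obtain ⟨h1, h2⟩ := (Finset.mem_filter.mp hcS).2
      rw [hg'] at h1
      exact h2 (by simp only [g', if_pos h1])
    have h := Finset.card_le_univ (Finset.univ.image g' ∪ S)
    rw [Finset.card_union_of_disjoint hdisj,
      Finset.card_image_of_injective _ (fun a c h => by rw [← hg' a, h, hg']), Finset.card_univ] at h
    simpa [Nat.card_eq_fintype_card] using h
  · set U : Finset G := Finset.univ.filter fun g => g ∈ N ∧ g ≠ 1 with hU
    have hcard : Nat.card N - 1 = U.card := by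
      rw [Nat.card_eq_fintype_card, Fintype.card_subtype, hU]
      rw [← Finset.card_erase_of_mem (a := (1 : G)) (by simp [N.one_mem])]
      congr 1
      ext g
      simp [and_comm]
    rw [hcard, mul_comm]
    refine Finset.card_le_mul_card_image_of_maps_to (f := ConjClasses.mk) ?_ _ ?_
    · intro g hg
      obtain ⟨hgN, hg1⟩ := (Finset.mem_filter.mp hg).2
      refine Finset.mem_filter.mpr ⟨Finset.mem_univ _, ?_, ?_⟩
      · exact congrArg ConjClasses.mk ((QuotientGroup.eq_one_iff g).mpr hgN)
      · intro h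
        exact hg1 (isConj_one_left.mp (ConjClasses.mk_eq_mk_iff_isConj.mp h))
    · intro c _
      rcases (U.filter fun g => ConjClasses.mk g = c).eq_empty_or_nonempty with he | ⟨g₀, hg₀⟩
      · rw [he]; simp
      obtain ⟨hgU, hgc⟩ := Finset.mem_filter.mp hg₀
      have hgN := (Finset.mem_filter.mp hgU).2.1
      have hle : Subgroup.centralizer (N : Set G) ≤ Subgroup.centralizer ({g₀} : Set G) :=
        Subgroup.centralizer_le (by simpa using hgN)
      refine le_trans ?_ (Nat.le_of_dvd (Nat.pos_of_ne_zero Subgroup.index_ne_zero_of_finite)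
        (Subgroup.index_dvd_of_le hle))
      haveI := Fintype.ofFinite (G ⧸ Subgroup.centralizer ({g₀} : Set G))
      rw [Subgroup.index_eq_card, Nat.card_eq_fintype_card]
      rw [← Finset.card_univ]
      have hrep : ∀ g ∈ U.filter (fun g => ConjClasses.mk g = c), ∃ a : G, a * g₀ * a⁻¹ = g := by
        intro g hg
        exact isConj_iff.mp (ConjClasses.mk_eq_mk_iff_isConj.mp (hgc.trans (Finset.mem_filter.mp hg).2.symm))
      choose a ha using hrep
      refine Finset.card_le_card_of_injOn (fun g => if h : g ∈ U.filter (fun g => ConjClasses.mk g = c)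
        then QuotientGroup.mk (a g h) else QuotientGroup.mk 1) (fun _ _ => Finset.mem_univ _) ?_
      intro g hg g' hg' he
      rw [Finset.mem_coe] at hg hg'
      simp only [dif_pos hg, dif_pos hg'] at he
      rw [QuotientGroup.eq, Subgroup.mem_centralizer_singleton_iff] at he
      rw [← ha g hg, ← ha g' hg']
      calc a g hg * g₀ * (a g hg)⁻¹
          = a g hg * (g₀ * ((a g hg)⁻¹ * a g' hg')) * (a g' hg')⁻¹ := by group
        _ = a g hg * (((a g hg)⁻¹ * a g' hg') * g₀) * (a g' hg')⁻¹ := by rw [he]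
        _ = _ := by group

/-! ### Few classes -/

theorem three_classes_arith {n a b : ℕ} (ha : 1 ≤ a) (hab : a ≤ b) (hn : n = 1 + a + b) (hda : a ∣ n)
    (hdb : b ∣ n) : n ≤ 6 := by
  by_contra h
  obtain ⟨β, hβ⟩ := hdb
  rcases Nat.lt_or_ge β 2 with h1 | h1
  · interval_cases β <;> omega
  rcases Nat.lt_or_ge β 3 with h2 | h2
  · have hb : b = a + 1 := by interval_cases β; omega
    have h3 : a ∣ 2 := by
      rw [show n = 2 * a + 2 by omega] at hda
      exact (Nat.dvd_add_right (dvd_mul_left a 2)).mp hda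
    have := Nat.le_of_dvd (by norm_num) h3
    omega
  · have := Nat.mul_le_mul_left b h2
    omega

theorem four_classes_arith {n a b c : ℕ} (ha : 1 ≤ a) (hab : a ≤ b) (hbc : b ≤ c)
    (hn : n = 1 + a + b + c) (hda : a ∣ n) (hdb : b ∣ n) (hdc : c ∣ n) : n ≤ 42 := by
  by_contra h
  obtain ⟨γ, hγ⟩ := hdc
  obtain ⟨β, hβ⟩ := hdb
  have hγ4 : γ < 4 := by
    by_contra h1
    have := Nat.mul_le_mul_left c (Nat.le_of_not_lt h1)
    omega
  have hγ2 : 2 ≤ γ := by
    by_contra h1
    interval_cases γ <;> omega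
  have hβ5 : β < 5 := by
    by_contra h1
    have := Nat.mul_le_mul_left b (Nat.le_of_not_lt h1)
    interval_cases γ <;> omega
  have hdiv : ∀ m : ℕ, a ∣ m → n = m → ∀ k r : ℕ, m = k * a + r → 0 < r → a ≤ r := by
    intro m hm _ k r e hr
    exact Nat.le_of_dvd hr ((Nat.dvd_add_right (dvd_mul_left a k)).mp (e ▸ hm))
  interval_cases γ <;> interval_cases β <;> try omega
  all_goals first
    | exact absurd (hdiv n hda rfl 6 6 (by omega) (by norm_num)) (by omega)
    | exact absurd (hdiv n hda rfl 4 4 (by omega) (by norm_num)) (by omega)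
    | exact absurd (hdiv n hda rfl 3 3 (by omega) (by norm_num)) (by omega)

/-- The class equation. -/
theorem exists_class_sizes (G : Type*) [Group G] [Finite G] :
    ∃ (s : Finset (ConjClasses G)) (f : ConjClasses G → ℕ), s.card + 1 = Nat.card (ConjClasses G) ∧
      (Nat.card G = 1 + ∑ c ∈ s, f c) ∧ ∀ c, 1 ≤ f c ∧ f c ∣ Nat.card G := by
  classical
  haveI := Fintype.ofFinite G
  refine ⟨Finset.univ.erase (ConjClasses.mk 1), fun c => c.carrier.toFinset.card, ?_, ?_, fun c => ?_⟩
  · rw [Finset.card_erase_of_mem (Finset.mem_univ _), Finset.card_univ, Nat.card_eq_fintype_card]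
    exact Nat.sub_add_cancel (Fintype.card_pos_iff.mpr ⟨ConjClasses.mk 1⟩)
  · have h1 : (ConjClasses.mk (1 : G)).carrier.toFinset.card = 1 := by
      rw [Finset.card_eq_one]
      refine ⟨1, ?_⟩
      ext x
      rw [Set.mem_toFinset, Finset.mem_singleton, ConjClasses.mem_carrier_iff_mk_eq,
        ConjClasses.mk_eq_mk_iff_isConj, isConj_one_left]
    rw [Nat.card_eq_fintype_card, ← sum_conjClasses_card_eq_card G, ← Finset.add_sum_erase _ _ (Finset.mem_univ (ConjClasses.mk 1)),
      h1]
  · obtain ⟨x, rfl⟩ := ConjClasses.exists_rep c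
    refine ⟨Finset.card_pos.mpr ⟨x, Set.mem_toFinset.mpr ConjClasses.mem_carrier_mk⟩, ?_⟩
    dsimp only
    rw [← Nat.card_eq_card_toFinset]
    rw [show (ConjClasses.mk x).carrier = MulAction.orbit (ConjAct G) x from
      (ConjAct.orbit_eq_carrier_conjClasses x).symm]
    exact (Nat.card_congr (MulAction.orbitEquivQuotientStabilizer (ConjAct G) x)) ▸
      Subgroup.card_quotient_dvd_card _

theorem card_le_of_classes_three (G : Type*) [Group G] [Finite G]
    (h : Nat.card (ConjClasses G) ≤ 3) : Nat.card G ≤ 6 := by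
  classical
  obtain ⟨s, f, hs, hsum, hf⟩ := exists_class_sizes G
  have hk : s.card ≤ 2 := by omega
  interval_cases hc : s.card
  · rw [Finset.card_eq_zero.mp hc, Finset.sum_empty] at hsum; omega
  · obtain ⟨a, rfl⟩ := Finset.card_eq_one.mp hc
    rw [Finset.sum_singleton] at hsum
    have := Nat.le_of_dvd one_pos ((Nat.dvd_add_left (dvd_refl (f a))).mp (hsum ▸ (hf a).2))
    omega
  · obtain ⟨a, c, hac, rfl⟩ := Finset.card_eq_two.mp hc
    rw [Finset.sum_pair hac] at hsum
    rcases le_total (f a) (f c) with hle | hle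
    · exact three_classes_arith (hf a).1 hle (by omega) (hf a).2 (hf c).2
    · exact three_classes_arith (hf c).1 hle (by omega) (hf c).2 (hf a).2

theorem card_le_of_classes_four (G : Type*) [Group G] [Finite G]
    (h : Nat.card (ConjClasses G) ≤ 4) : Nat.card G ≤ 42 := by
  classical
  obtain ⟨s, f, hs, hsum, hf⟩ := exists_class_sizes G
  by_cases h3 : Nat.card (ConjClasses G) ≤ 3
  · exact (card_le_of_classes_three G h3).trans (by norm_num)
  obtain ⟨a, b, c, hab, hac, hbc, rfl⟩ := Finset.card_eq_three.mp (show s.card = 3 by omega)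
  rw [Finset.sum_insert (by simp [hab, hac]), Finset.sum_pair hbc] at hsum
  obtain ⟨ha1, had⟩ := hf a
  obtain ⟨hb1, hbd⟩ := hf b
  obtain ⟨hc1, hcd⟩ := hf c
  rcases le_total (f a) (f b) with h1 | h1 <;> rcases le_total (f a) (f c) with h2 | h2 <;>
    rcases le_total (f b) (f c) with h4 | h4
  all_goals first
    | exact four_classes_arith ha1 h1 h4 (by omega) had hbd hcd
    | exact four_classes_arith ha1 h2 h4 (by omega) had hcd hbd
    | exact four_classes_arith hb1 h1 h2 (by omega) hbd had hcd
    | exact four_classes_arith hb1 h4 h2 (by omega) hbd hcd had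
    | exact four_classes_arith hc1 h2 h1 (by omega) hcd had hbd
    | exact four_classes_arith hc1 h4 h1 (by omega) hcd hbd had

/-- A group with few classes is small, so a noncommutative bound applies. -/
theorem five_le_classes {G : Type*} [Group G] [Finite G] (h : 42 < Nat.card G) :
    5 ≤ Nat.card (ConjClasses G) := by
  by_contra hh
  exact absurd (card_le_of_classes_four G (by omega)) (by omega)

end Cfsg.Agent.SqClass
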