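import Cfsg.Agent.Lib.Grp.SqClass.Blocks
import Cfsg.Agent.Lib.Grp.BaseTwo.LayerBounds

/-!
# The field case and its layer
-/

set_option autoImplicit false
set_option linter.style.haveILetI false

universe u

namespace Cfsg.Agent.SqClass

open scoped commutatorElement
open BaseTwo (IsInv IsIrr IsCR SemiData autAdd sq_dvd_card prime_dvd_card_values genRing toEnd
  toEnd_apply toEnd_mem_genRing toEnd_commute_genRing conj_mem_genRing commutator_le_of_factor)

/-- The layer above a maximal abelian normal subgroup acting by scalars. -/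
structure LayerData {A V K : Type u} [Group A] [AddCommGroup V] [DistribMulAction A V] [Field K]
    [Module K V] {Z : Subgroup A} (D : SemiData A V K Z) where
  M : Subgroup A
  normal : M.Normal
  Z_lt : Z < M
  M_le : M ≤ Subgroup.centralizer (Z : Set A)
  comm_mem : ∀ x ∈ M, ∀ y ∈ M, ⁅x, y⁆ ∈ Z
  W : Type u
  grp : CommGroup W
  fin : Finite W
  card_M : Nat.card M = Nat.card Z * Nat.card W
  card_W_le : Nat.card W ≤ Module.finrank K V * Module.finrank K V
  b : W →* W →* Kˣ
  alt : ∀ w, b w w = 1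
  nd : ∀ w, b w = 1 → w = 1
  φ : A →* MulAut W
  ker : ∀ g ∈ Subgroup.centralizer (Z : Set A), (φ g = 1 ↔ g ∈ M)
  pres : ∀ g ∈ Subgroup.centralizer (Z : Set A), ∀ v w, b (φ g v) (φ g w) = b v w
  self_centralizing : ∀ g ∈ Subgroup.centralizer (Z : Set A), (∀ m ∈ M, ⁅g, m⁆ ∈ Z) → g ∈ M
  cr : @IsCR φ.range (Additive W) _ _ (autAdd φ.range)

set_option maxHeartbeats 1600000 in
theorem nonempty_layerData {A V K : Type u} [Group A] [Finite A] [AddCommGroup V] [Finite V]
    [Nontrivial V] [DistribMulAction A V] [FaithfulSMul A V] [Field K] [Finite K] [Module K V]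
    {Z : Subgroup A} [Z.Normal] (D : SemiData A V K Z)
    (M : Subgroup A) [M.Normal] (hZM : Z < M) (hMC : M ≤ Subgroup.centralizer (Z : Set A))
    (hcomm : ∀ x ∈ M, ∀ y ∈ M, ⁅x, y⁆ ∈ Z)
    (hcenM : ∀ x ∈ M, (∀ y ∈ M, x * y = y * x) → x ∈ Z)
    (hcenC : ∀ g ∈ Subgroup.centralizer (Z : Set A), (∀ y ∈ M, g * y = y * g) → g ∈ Z)
    (hcompl : ∀ X : Subgroup A, X.Normal → Z ≤ X → X ≤ M →
      ∃ Y : Subgroup A, Y.Normal ∧ Z ≤ Y ∧ Y ≤ M ∧ X ⊓ Y = Z ∧ X ⊔ Y = M) :
    Nonempty (LayerData D) := by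
  classical
  set C := Subgroup.centralizer (Z : Set A) with hC
  haveI : FiniteDimensional K V := Module.Finite.of_finite
  haveI hfinM : Finite (M →* Kˣ) := Finite.of_injective (fun f : M →* Kˣ => (f : M → Kˣ)) DFunLike.coe_injective
  have hZmul : ∀ g ∈ C, ∀ z ∈ Z, g * z = z * g := fun g hg z hz =>
    ((Subgroup.mem_centralizer_iff.mp hg) z hz).symm
  -- commutators as scalars
  have hchar : ∀ g ∈ C, ∀ h : (∀ m ∈ M, ⁅g, m⁆ ∈ Z), ∃ χ : M →* Kˣ, ∀ m : M, χ m = D.ι ⟨⁅g, (m : A)⁆, h m m.2⟩ := by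
    intro g _ h
    refine ⟨MonoidHom.mk' (fun m : M => D.ι ⟨⁅g, (m : A)⁆, h m m.2⟩) fun m m' => ?_, fun m => rfl⟩
    rw [← map_mul]
    congr 1
    refine Subtype.ext ?_
    show ⁅g, (m : A) * (m' : A)⁆ = ⁅g, (m : A)⁆ * ⁅g, (m' : A)⁆
    have e := hZmul m (hMC m.2) _ (h m' m'.2)
    calc ⁅g, (m : A) * (m' : A)⁆ = ⁅g, (m : A)⁆ * ((m : A) * ⁅g, (m' : A)⁆ * (m : A)⁻¹) := by
          simp only [commutatorElement_def]; group
      _ = _ := by rw [e]; group
  choose χ hχ using hchar
  let β : M →* (M →* Kˣ) := MonoidHom.mk' (fun x => χ x (hMC x.2) fun m hm => hcomm x x.2 m hm) (by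
    intro x y
    refine MonoidHom.ext fun m => ?_
    rw [MonoidHom.mul_apply, hχ, hχ, hχ, ← map_mul]
    congr 1
    refine Subtype.ext ?_
    show ⁅(x : A) * (y : A), (m : A)⁆ = ⁅(x : A), (m : A)⁆ * ⁅(y : A), (m : A)⁆
    have e := hZmul x (hMC x.2) _ (hcomm y y.2 m m.2)
    have e' := hZmul _ (hMC (SetLike.le_def.mp hZM.le (hcomm y y.2 m m.2))) _ (hcomm x x.2 m m.2)
    rw [← e']
    calc ⁅(x : A) * (y : A), (m : A)⁆ = ((x : A) * ⁅(y : A), (m : A)⁆ * (x : A)⁻¹) * ⁅(x : A), (m : A)⁆ := by
          simp only [commutatorElement_def]; group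
      _ = _ := by rw [e]; group)
  have hβ : ∀ x m : M, β x m = D.ι ⟨⁅(x : A), (m : A)⁆, hcomm x x.2 m m.2⟩ := fun x m => hχ _ _ _ m
  have hskew : ∀ x m : M, β x m = (β m x)⁻¹ := fun x m => by
    rw [hβ, hβ, ← map_inv]
    congr 1
    exact Subtype.ext (commutatorElement_inv _ _).symm
  have hβker : β.ker = Z.subgroupOf M := by
    ext x
    rw [MonoidHom.mem_ker, Subgroup.mem_subgroupOf]
    constructor
    · intro h
      refine hcenM x x.2 fun y hy => ?_
      have e := DFunLike.congr_fun h (⟨y, hy⟩ : M)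
      rw [hβ, MonoidHom.one_apply, map_eq_one_iff _ D.ι_injective] at e
      exact commutatorElement_eq_one_iff_mul_comm.mp (congrArg Subtype.val e)
    · intro h
      refine MonoidHom.ext fun m => ?_
      rw [hβ, MonoidHom.one_apply, map_eq_one_iff _ D.ι_injective]
      refine Subtype.ext (commutatorElement_eq_one_iff_mul_comm.mpr ?_)
      exact (hZmul m (hMC m.2) x h).symm
  set W := β.range with hW
  set E := Nat.card W with hE
  have hMcard : Nat.card M = Nat.card Z * E := by
    rw [← β.ker.card_mul_index, Subgroup.index_ker, hβker,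
      Nat.card_congr (Subgroup.subgroupOfEquivOfLe hZM.le).toEquiv]
  choose rep hrep using fun f : W => MonoidHom.mem_range.mp f.2
  -- the pairing
  have hsym : ∀ f g : W, (f : M →* Kˣ) (rep g) = ((g : M →* Kˣ) (rep f))⁻¹ := fun f g => by
    rw [← hrep f, ← hrep g, hskew, hrep]
  let b : W →* W →* Kˣ := MonoidHom.mk' (fun f => MonoidHom.mk' (fun g : W => (f : M →* Kˣ) (rep g))
      (fun g g' => by rw [hsym, hsym f g, hsym f g', Subgroup.coe_mul, MonoidHom.mul_apply, mul_inv]))
    (fun f f' => MonoidHom.ext fun g => rfl)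
  have hb : ∀ x y : M, b (β.rangeRestrict x) (β.rangeRestrict y) = β x y := fun x y => by
    show β x (rep (β.rangeRestrict y)) = β x y
    rw [hskew x, hskew x y, hrep]
    rfl
  have hsurj : ∀ f : W, ∃ x : M, β.rangeRestrict x = f := β.rangeRestrict_surjective
  have halt : ∀ f, b f f = 1 := fun f => by
    obtain ⟨x, rfl⟩ := hsurj f
    rw [hb, hβ, map_eq_one_iff _ D.ι_injective]
    exact Subtype.ext (commutatorElement_eq_one_iff_mul_comm.mpr rfl)
  have hnd : ∀ f, b f = 1 → f = 1 := fun f hf => by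
    obtain ⟨x, rfl⟩ := hsurj f
    refine Subtype.ext (MonoidHom.ext fun m => ?_)
    have := DFunLike.congr_fun hf (β.rangeRestrict m)
    rwa [hb] at this
  -- the bound on the order
  have hEt : E ≤ Module.finrank K V * Module.finrank K V := by
    haveI : Fintype W := Fintype.ofFinite W
    let L : M → V →ₗ[K] V := fun m =>
      { toFun := fun v => (m : A) • v
        map_add' := fun v w => smul_add _ v w
        map_smul' := fun k v => D.linear (hMC m.2) k v }
    have hli : LinearIndependent K (fun f : W => L (rep f)) := by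
      rw [Fintype.linearIndependent_iff]
      intro c hc f₀
      have hchars : LinearIndependent K
          (fun f : W => (((Units.coeHom K).comp (f : M →* Kˣ) : M →* K) : M → K)) := by
        refine (linearIndependent_monoidHom M K).comp _ fun f g h => ?_
        exact Subtype.ext (MonoidHom.ext fun m => Units.ext (DFunLike.congr_fun h m))
      have hzero : ∀ (v : V) (m : M), ∑ f : W, (c f * ((f : M →* Kˣ) m : K)) • ((rep f : A) • v) = 0 := by
        intro v m
        have h0 := DFunLike.congr_fun hc ((m : A) • v)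
        simp only [LinearMap.sum_apply, LinearMap.smul_apply, LinearMap.zero_apply] at h0
        have h1 := congrArg (fun u : V => (m : A)⁻¹ • u) h0
        simp only [smul_zero, Finset.smul_sum] at h1
        rw [← h1]
        refine Finset.sum_congr rfl fun f _ => ?_
        show _ = (m : A)⁻¹ • c f • (rep f : A) • (m : A) • v
        rw [D.linear (C.inv_mem (hMC m.2)), mul_smul]
        congr 1
        have e : (m : A)⁻¹ * (rep f : A) * (m : A) = ⁅(m : A)⁻¹, (rep f : A)⁆ * (rep f : A) := by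
          simp only [commutatorElement_def]; group
        have e' : (f : M →* Kˣ) m = β m⁻¹ (rep f) := by
          rw [map_inv, MonoidHom.inv_apply, hskew, inv_inv, hrep]
        rw [← mul_smul, ← mul_smul, e, mul_smul, e', hβ, ← D.scalar]
        rfl
      obtain ⟨v, hv⟩ := exists_ne (0 : V)
      obtain ⟨φ, hφ⟩ : ∃ φ : Module.Dual K V, φ ((rep f₀ : A) • v) ≠ 0 := by
        by_contra h
        push Not at h
        exact hv ((smul_eq_zero_iff_eq _).mp ((Module.forall_dual_apply_eq_zero_iff K _).mp h))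
      have hsum : ∑ f : W, (c f * φ ((rep f : A) • v)) •
          (((Units.coeHom K).comp (f : M →* Kˣ) : M →* K) : M → K) = 0 := by
        funext m
        have h := congrArg φ (hzero v m)
        simp only [map_sum, map_smul, map_zero, smul_eq_mul] at h
        rw [Finset.sum_apply, Pi.zero_apply, ← h]
        refine Finset.sum_congr rfl fun f _ => ?_
        show c f * φ ((rep f : A) • v) * ((f : M →* Kˣ) m : K) = _
        ring
      exact (mul_eq_zero.mp (Fintype.linearIndependent_iff.mp hchars _ hsum f₀)).resolve_right hφ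
    have := hli.fintype_card_le_finrank
    rwa [Module.finrank_linearMap, ← Nat.card_eq_fintype_card] at this
  -- characters of the layer
  have hdual : ∀ f : M →* Kˣ, (∀ z : M, (z : A) ∈ Z → f z = 1) → f ∈ W := by
    intro f hf
    let Q := M ⧸ β.ker
    haveI : Fintype Q := Fintype.ofFinite Q
    let S : Subgroup (M →* Kˣ) :=
      { carrier := {f | ∀ z ∈ β.ker, f z = 1}
        one_mem' := fun z _ => rfl
        mul_mem' := fun {f g} hf hg z hz => by rw [MonoidHom.mul_apply, hf z hz, hg z hz, one_mul]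
        inv_mem' := fun {f} hf z hz => by rw [MonoidHom.inv_apply, hf z hz, inv_one] }
    have hWS : W ≤ S := by
      rintro _ ⟨x, rfl⟩ z hz
      rw [hskew, MonoidHom.mem_ker.mp hz, MonoidHom.one_apply, inv_one]
    haveI : Fintype S := Fintype.ofFinite S
    have hSli : LinearIndependent K (fun g : S =>
        ((QuotientGroup.lift β.ker ((Units.coeHom K).comp (g : M →* Kˣ))
          (fun z hz => by
            show ((g : M →* Kˣ) z : K) = 1
            rw [g.2 z hz, Units.val_one]) : Q →* K) : Q → K)) := by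
      refine (linearIndependent_monoidHom Q K).comp _ fun g g' h => ?_
      exact Subtype.ext (MonoidHom.ext fun m => Units.ext (DFunLike.congr_fun h (QuotientGroup.mk m)))
    have hle := hSli.fintype_card_le_finrank
    rw [Module.finrank_fintype_fun_eq_card, ← Nat.card_eq_fintype_card, ← Nat.card_eq_fintype_card,
      ← Subgroup.index_eq_card, Subgroup.index_ker] at hle
    rw [Subgroup.eq_of_le_of_card_ge hWS hle]
    exact fun z hz => hf z (by rwa [hβker, Subgroup.mem_subgroupOf] at hz)
  -- the action on the layer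
  let cj : A →* MulAut M := MulAut.conjNormal
  have hcj : ∀ (a : A) (x : M), (cj a x : A) = a * x * a⁻¹ := fun a x => MulAut.conjNormal_apply a x
  have hform : ∀ (a : A) (x m : M), β (cj a x) (cj a m) = Units.map (D.σ a).toMonoidHom (β x m) := by
    intro a x m
    rw [hβ, hβ]
    refine Units.ext ?_
    show _ = D.σ a _
    rw [D.σ_ι]
    congr 2
    refine Subtype.ext ?_
    show ⁅(cj a x : A), (cj a m : A)⁆ = a * ⁅(x : A), (m : A)⁆ * a⁻¹
    simp only [hcj, commutatorElement_def]
    group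
  have hwell : ∀ (a : A) (x x' : M), β x = β x' → β (cj a x) = β (cj a x') := by
    intro a x x' h
    refine MonoidHom.ext fun m => ?_
    obtain ⟨m', rfl⟩ := (cj a).surjective m
    rw [hform, hform, h]
  let act : A → W → W := fun a f => β.rangeRestrict (cj a (rep f))
  have hact : ∀ (a : A) (x : M), act a (β.rangeRestrict x) = β.rangeRestrict (cj a x) := fun a x =>
    Subtype.ext (hwell a _ _ (hrep (β.rangeRestrict x)))
  let φ : A →* MulAut W :=
    { toFun := fun a =>
        { toFun := act a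
          invFun := act a⁻¹
          left_inv := fun f => by
            obtain ⟨x, rfl⟩ := hsurj f
            rw [hact a x, hact a⁻¹, ← MulAut.mul_apply, ← map_mul, inv_mul_cancel, map_one]
            rfl
          right_inv := fun f => by
            obtain ⟨x, rfl⟩ := hsurj f
            rw [hact a⁻¹ x, hact a, ← MulAut.mul_apply, ← map_mul, mul_inv_cancel, map_one]
            rfl
          map_mul' := fun f g => by
            obtain ⟨x, rfl⟩ := hsurj f
            obtain ⟨y, rfl⟩ := hsurj g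
            rw [← map_mul, hact, hact, hact, map_mul, map_mul] }
      map_one' := MulEquiv.ext fun f => by
        obtain ⟨x, rfl⟩ := hsurj f
        show act 1 (β.rangeRestrict x) = β.rangeRestrict x
        rw [hact, map_one]
        rfl
      map_mul' := fun a c => MulEquiv.ext fun f => by
        obtain ⟨x, rfl⟩ := hsurj f
        show act (a * c) _ = act a (act c _)
        rw [hact (a * c) x, hact c x, hact a, map_mul]
        rfl }
  have hφ : ∀ (a : A) (x : M), φ a (β.rangeRestrict x) = β.rangeRestrict (cj a x) := hact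
  have hMφ : ∀ g ∈ M, φ g = 1 := by
    intro g hg
    refine MulEquiv.ext fun f => ?_
    obtain ⟨x, rfl⟩ := hsurj f
    rw [hφ, MulAut.one_apply, show cj g x = ⟨g, hg⟩ * x * ⟨g, hg⟩⁻¹ from Subtype.ext (hcj g x), map_mul,
      map_mul, map_inv, mul_comm (β.rangeRestrict ⟨g, hg⟩), mul_assoc, mul_inv_cancel, mul_one]
  have hφker : ∀ g ∈ C, φ g = 1 → g ∈ M := by
    intro g hg hg1
    have hgM : ∀ m ∈ M, ⁅g, m⁆ ∈ Z := by
      intro m hm
      have e : β (cj g ⟨m, hm⟩) = β ⟨m, hm⟩ := by
        have h := hφ g ⟨m, hm⟩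
        rw [hg1, MulAut.one_apply] at h
        exact (congrArg Subtype.val h).symm
      have h1 : cj g ⟨m, hm⟩ * (⟨m, hm⟩ : M)⁻¹ ∈ β.ker := by
        rw [MonoidHom.mem_ker, map_mul, map_inv, e, mul_inv_cancel]
      rw [hβker, Subgroup.mem_subgroupOf, Subgroup.coe_mul, hcj] at h1
      rw [commutatorElement_def]
      exact h1
    obtain ⟨x, hx⟩ := hdual (χ g hg hgM) fun z hz => by
      rw [hχ, map_eq_one_iff _ D.ι_injective]
      exact Subtype.ext (commutatorElement_eq_one_iff_mul_comm.mpr (hZmul g hg z hz))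
    have hx' : (x : A)⁻¹ * g ∈ Z := by
      refine hcenC _ (C.mul_mem (C.inv_mem (hMC x.2)) hg) fun m hm => ?_
      have h := DFunLike.congr_fun hx (⟨m, hm⟩ : M)
      rw [hβ, hχ] at h
      have h' : ⁅(x : A), m⁆ = ⁅g, m⁆ := congrArg Subtype.val (D.ι_injective h)
      rw [commutatorElement_def, commutatorElement_def, mul_left_inj] at h'
      have h'' : (x : A) * m * (x : A)⁻¹ = g * m * g⁻¹ := h'
      calc (x : A)⁻¹ * g * m = (x : A)⁻¹ * (g * m * g⁻¹) * g := by group
        _ = m * ((x : A)⁻¹ * g) := by rw [← h'']; group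
    have : g = (x : A) * ((x : A)⁻¹ * g) := (mul_inv_cancel_left _ _).symm
    rw [this]
    exact M.mul_mem x.2 (hZM.le hx')
  letI := autAdd φ.range
  have hfaith : ∀ g : φ.range, (∀ v : Additive W, g • v = v) → g = 1 := fun g hg =>
    Subtype.ext (MulEquiv.ext fun w => Additive.ofMul.injective (hg (Additive.ofMul w)))
  have hcr : IsCR φ.range (Additive W) := by
    intro U hU
    let U₀ : Subgroup W := AddSubgroup.toSubgroup' U
    let X : Subgroup A := (U₀.comap β.rangeRestrict).map M.subtype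
    have hXn : X.Normal := by
      refine ⟨?_⟩
      rintro _ ⟨x, hx, rfl⟩ a
      refine ⟨cj a x, ?_, hcj a x⟩
      have := hU ⟨φ a, a, rfl⟩ _ hx
      show β.rangeRestrict (cj a x) ∈ U₀
      rw [← hφ]
      exact this
    have hZX : Z ≤ X := fun z hz => by
      refine ⟨⟨z, hZM.le hz⟩, ?_, rfl⟩
      show β.rangeRestrict (⟨z, hZM.le hz⟩ : M) ∈ U₀
      rw [show β.rangeRestrict (⟨z, hZM.le hz⟩ : M) = 1 from Subtype.ext
        (MonoidHom.mem_ker.mp (by rw [hβker]; exact hz))]
      exact U₀.one_mem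
    obtain ⟨Y, hYn, hZY, hYM, hXY, hXYM⟩ := hcompl X hXn hZX (Subgroup.map_subtype_le _)
    let U₁ : Subgroup W := (Y.subgroupOf M).map β.rangeRestrict
    refine ⟨Subgroup.toAddSubgroup U₁, ?_, ?_, ?_⟩
    · rintro ⟨_, a, rfl⟩ w ⟨y, hy, hyw⟩
      refine ⟨cj a y, ?_, ?_⟩
      · show (cj a y : A) ∈ Y
        rw [hcj]
        exact hYn.conj_mem _ hy a
      · show β.rangeRestrict (cj a y) = φ a w.toMul
        rw [← hφ]
        exact congrArg (φ a) hyw
    · rw [eq_bot_iff]
      rintro w ⟨hw, y, hy, hyw⟩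
      have hyX : (y : A) ∈ X ⊓ Y := ⟨⟨y, by show β.rangeRestrict y ∈ U₀; rw [hyw]; exact hw, rfl⟩, hy⟩
      rw [hXY] at hyX
      have hy1 : β.rangeRestrict y = 1 := Subtype.ext (MonoidHom.mem_ker.mp (by rw [hβker]; exact hyX))
      rw [hy1] at hyw
      exact AddSubgroup.mem_bot.mpr hyw.symm
    · rw [eq_top_iff]
      intro w _
      obtain ⟨m, hm⟩ := hsurj w.toMul
      have hmXY : (m : A) ∈ X ⊔ Y := by rw [hXYM]; exact m.2
      haveI := hYn
      obtain ⟨_, ⟨x, hx, rfl⟩, y, hy, hxy⟩ := Subgroup.mem_sup_of_normal_right.mp hmXY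
      refine AddSubgroup.mem_sup.mpr ⟨Additive.ofMul (β.rangeRestrict x), hx,
        Additive.ofMul (β.rangeRestrict ⟨y, hYM hy⟩), ⟨⟨y, hYM hy⟩, hy, rfl⟩, ?_⟩
      show Additive.ofMul (β.rangeRestrict x * β.rangeRestrict ⟨y, hYM hy⟩) = w
      rw [← map_mul, show x * ⟨y, hYM hy⟩ = m from Subtype.ext hxy, hm]
      rfl
  refine ⟨{ M := M, normal := inferInstance, Z_lt := hZM, M_le := hMC, comm_mem := hcomm, W := ↥W, grp := inferInstance,
            fin := inferInstance, card_M := hMcard, card_W_le := hEt, b := b, alt := halt, nd := hnd,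
            φ := φ, ker := fun g hg => ⟨hφker g hg, hMφ g⟩, pres := ?_, self_centralizing := ?_, cr := hcr }⟩
  swap
  · intro g hg hgM
    refine hφker g hg (MulEquiv.ext fun f => ?_)
    obtain ⟨x, rfl⟩ := hsurj f
    have e : cj g x = ⟨⁅g, (x : A)⁆, hZM.le (hgM x x.2)⟩ * x := Subtype.ext (by
      show (cj g x : A) = ⁅g, (x : A)⁆ * (x : A)
      simp only [hcj, commutatorElement_def, inv_mul_cancel_right])
    have hz : β.rangeRestrict ⟨⁅g, (x : A)⁆, hZM.le (hgM x x.2)⟩ = 1 :=
      Subtype.ext (MonoidHom.mem_ker.mp (by rw [hβker]; exact hgM x x.2))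
    rw [hφ, MulAut.one_apply, e, map_mul, hz, one_mul]
  intro g hg v w
  obtain ⟨x, rfl⟩ := hsurj v
  obtain ⟨y, rfl⟩ := hsurj w
  rw [← D.ker_eq] at hg
  rw [hφ, hφ, hb, hb, hform, MonoidHom.mem_ker.mp hg]
  exact Units.ext rfl

end Cfsg.Agent.SqClass
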