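import Cfsg.Agent.Lib.Grp.SqClass.Arith

/-!
# Solvable irreducible linear groups: class number and orbits
-/

set_option autoImplicit false
set_option linter.style.haveILetI false

universe u

namespace Cfsg.Agent.SqClass

open BaseTwo (IsIrr)

/-- A product decomposition bounding the commuting probability. -/
def Rep (p : ℕ) (A : Type u) [Group A] (a : ℕ) : Prop :=
  ∃ n b T C : ℕ, 1 ≤ n ∧ a = n * b ∧ CPB A (C ^ n * (T * T)) ∧ T ^ 3 ≤ 24 ^ (n - 1) ∧
    (n ≤ 4 → T ≤ n.factorial) ∧ PrimBound p b C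

/-- The block system of a representation composed with that of a block. -/
theorem rep_blocks {V : Type u} [AddCommGroup V] [Finite V] [Nontrivial V]
    {A : Subgroup (AddMonoid.End V)ˣ} (hirr : IsIrr A V) (hsol : Group.IsSolvable A) (D : Blocks A V)
    {p a : ℕ} (hp : p.Prime) (hV : Nat.card V = p ^ a)
    (IH : ∀ a' < a, ∀ (B : Type u) [AddCommGroup B] [Finite B] [Nontrivial B]
      (H : Subgroup (AddMonoid.End B)ˣ), Group.IsSolvable H → IsIrr H B → Nat.card B = p ^ a' →
      Rep p H a') :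
    ∃ n b T C : ℕ, 2 ≤ n ∧ a = n * b ∧ CPB A (C ^ n * (T * T)) ∧ T ^ 3 ≤ 24 ^ (n - 1) ∧
      (n ≤ 4 → T ≤ n.factorial) ∧ PrimBound p b C := by
  obtain ⟨B, _, _, _, H, n, T, hHirr, hHsol, hn, hVB, hT, hTn, -, hcpb⟩ :=
    exists_block_group hirr hsol D
  obtain ⟨a', -, hB⟩ := (Nat.dvd_prime_pow hp).mp (show Nat.card B ∣ p ^ a from
    hV ▸ hVB ▸ dvd_pow_self _ (by omega))
  have ha : a = n * a' := by
    rw [hV, hB, ← pow_mul, mul_comm] at hVB
    exact Nat.pow_right_injective hp.two_le hVB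
  have ha0 : 1 ≤ a' := by
    by_contra h
    have h0 : a' = 0 := by omega
    rw [h0, pow_zero] at hB
    exact (Finite.one_lt_card (α := B)).ne' hB
  have hlt : a' < a := by
    rw [ha]
    calc a' < 2 * a' := by omega
      _ ≤ n * a' := Nat.mul_le_mul_right _ hn
  obtain ⟨n', b, T', C, hn', ha', hH, hT', hT'4, hC⟩ := IH a' hlt B H hHsol hHirr hB
  refine ⟨n * n', b, T' ^ n * T, C, ?_, by rw [ha, ha', mul_assoc], ?_, ?_, ?_, hC⟩
  · calc 2 ≤ n * 1 := by omega
      _ ≤ n * n' := Nat.mul_le_mul_left _ hn'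
  · refine (hcpb _ hH).mono (le_of_eq ?_)
    rw [mul_pow, mul_pow, ← pow_mul, mul_comm n' n]
    ring
  · calc (T' ^ n * T) ^ 3 = (T' ^ 3) ^ n * T ^ 3 := by ring
      _ ≤ (24 ^ (n' - 1)) ^ n * 24 ^ (n - 1) := Nat.mul_le_mul (Nat.pow_le_pow_left hT' n) hT
      _ = 24 ^ (n * (n' - 1) + (n - 1)) := by rw [← pow_mul, ← pow_add, mul_comm]
      _ ≤ 24 ^ (n * n' - 1) := Nat.pow_le_pow_right (by norm_num) (by
          rw [Nat.mul_sub, mul_one]
          have : n ≤ n * n' := Nat.le_mul_of_pos_right n hn'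
          omega)
  · intro h4
    have hn'2 : n' ≤ 2 := by
      by_contra h
      have := Nat.mul_le_mul hn (Nat.lt_of_not_le h)
      omega
    interval_cases n'
    · have hT1 : T' ≤ 1 := by simpa using hT'4 (by norm_num)
      calc T' ^ n * T ≤ 1 ^ n * T := Nat.mul_le_mul_right _ (Nat.pow_le_pow_left hT1 n)
        _ = T := by simp
        _ ≤ _ := by simpa using hTn
    · obtain rfl : n = 2 := by omega
      have hT2 : T' ≤ 2 := by simpa using hT'4 (by norm_num)
      have hT2' : T ≤ 2 := by simpa using hTn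
      calc T' ^ 2 * T ≤ 2 ^ 2 * 2 := Nat.mul_le_mul (Nat.pow_le_pow_left hT2 2) hT2'
        _ ≤ _ := by decide

theorem rep {p : ℕ} (hp : p.Prime) (hp11 : 11 ≤ p) :
    ∀ (a : ℕ) (V : Type u) [AddCommGroup V] [Finite V] [Nontrivial V]
      (A : Subgroup (AddMonoid.End V)ˣ), Group.IsSolvable A → IsIrr A V → Nat.card V = p ^ a →
      Rep p A a := by
  intro a
  induction a using Nat.strong_induction_on with
  | _ a IH =>
    intro V _ _ _ A hsol hirr hV
    haveI := Fact.mk hp
    rcases blocks_or_prim A hsol hirr hV with ⟨⟨D⟩⟩ | ⟨⟨P⟩⟩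
    · obtain ⟨n, b, T, C, hn, h⟩ := rep_blocks hirr hsol D hp hV IH
      exact ⟨n, b, T, C, by omega, h⟩
    · haveI : FaithfulSMul A V := ⟨fun {x y} h => Subtype.ext (Units.ext (AddMonoidHom.ext h))⟩
      haveI : Finite A := Finite.of_injective _ Subtype.val_injective
      obtain ⟨C, hC, hA⟩ := (prim_bound hp hp11 hsol P).1
      exact ⟨1, a, 1, C, le_rfl, (one_mul a).symm, by simpa using hA, by norm_num,
        fun _ => le_rfl, hC⟩

theorem pos_of_cpb {A : Type u} [Group A] [Finite A] {C : ℕ} (h : CPB A C) : 0 < C := by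
  rcases Nat.eq_zero_or_pos C with rfl | hC
  · unfold CPB at h
    rw [zero_mul] at h
    exact absurd h (Nat.card_pos (α := A)).not_ge
  · exact hC

/-- The bound for an irreducible solvable linear group. -/
theorem linear_bound {p a x : ℕ} (hp : p.Prime) (ha : 2 ≤ a) {V : Type u} [AddCommGroup V] [Finite V]
    (A : Subgroup (AddMonoid.End V)ˣ) (hsol : Group.IsSolvable A) (hirr : IsIrr A V)
    (hV : Nat.card V = p ^ a) (hx : p ^ a - 1 ≤ x * Nat.card A) :
    49 * p ≤ 60 * (Nat.card (ConjClasses A) + x) := by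
  haveI : Finite A := Finite.of_injective _ Subtype.val_injective
  rcases Nat.lt_or_ge p 11 with hp7 | hp11
  · have : p ≤ 7 := by
      by_contra h
      interval_cases p <;> norm_num at hp
    exact bound_small_prime hp this ha one_le_classes hx (card_le_of_classes_three A)
      (card_le_of_classes_four A)
  haveI : Nontrivial V := Finite.one_lt_card_iff_nontrivial.mp (by
    rw [hV]; exact Nat.one_lt_pow (by omega) hp.one_lt)
  haveI := Fact.mk hp
  rcases blocks_or_prim A hsol hirr hV with ⟨⟨D⟩⟩ | ⟨⟨P⟩⟩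
  · obtain ⟨n, b, T, C, hn, hab, hA, hT, hT4, hC⟩ :=
      rep_blocks hirr hsol D hp hV fun a' _ B _ _ _ H h1 h2 h3 => rep hp hp11 a' B H h1 h2 h3
    refine bound_of_crit hA hx ?_ (pos_of_cpb hA)
    subst hab
    exact crit_of_le hp11 ha (imprim_crit hp11 hC hn hT hT4)
  haveI : FaithfulSMul A V := ⟨fun {x y} h => Subtype.ext (Units.ext (AddMonoidHom.ext h))⟩
  obtain ⟨⟨C, hC, hA⟩, htwo⟩ := prim_bound hp hp11 hsol P
  rcases Nat.lt_or_ge a 3 with ha3 | ha3
  · obtain rfl : a = 2 := by omega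
    rcases htwo rfl with h5 | ⟨z, hz, hk, hdvd⟩
    · exact bound_of_crit h5 hx (crit_of_le hp11 le_rfl (by norm_num)) (by norm_num)
    · exact bound_sym_four hp11 hdvd hk (by rwa [← hz])
  · exact bound_of_crit hA hx (prim_crit hp11 ha3 hC) (pos_of_cpb hA)

end Cfsg.Agent.SqClass
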