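import Cfsg.Agent.Lib.Grp.SqClass.Layer
import Cfsg.Agent.Lib.Grp.BaseThree.Defs

/-!
# Primitive solvable linear groups
-/

set_option autoImplicit false
set_option linter.style.haveILetI false

universe u

namespace Cfsg.Agent.SqClass

open BaseTwo (IsInv IsIrr IsCR SemiData genRing toEnd toEnd_apply toEnd_mem_genRing
  toEnd_commute_genRing conj_mem_genRing exists_layer)

/-- The field case. -/
structure Prim (A V : Type u) [Group A] [AddCommGroup V] [DistribMulAction A V] (p a : ℕ) where
  K : Type u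
  fld : Field K
  fin : Finite K
  mod : Module K V
  Z : Subgroup A
  normal : Z.Normal
  D : SemiData A V K Z
  comm : ∀ x ∈ Z, ∀ y ∈ Z, x * y = y * x
  m : ℕ
  d : ℕ
  dim : a = m * d
  card_K : Nat.card K = p ^ m
  finrank_eq : Module.finrank K V = d
  index_le : (Subgroup.centralizer (Z : Set A)).index ≤ m
  layer : Z = Subgroup.centralizer (Z : Set A) ∨ Nonempty (LayerData D)

theorem card_ringAut_le (K : Type*) [Field K] [Finite K] {p m : ℕ} [Fact p.Prime] [CharP K p]
    (hK : Nat.card K = p ^ m) : Nat.card (RingAut K) ≤ m := by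
  classical
  letI : Algebra (ZMod p) K := ZMod.algebra K p
  have hm : Module.finrank (ZMod p) K = m := by
    have h := Module.natCard_eq_pow_finrank (K := ZMod p) (V := K)
    rw [hK, Nat.card_zmod] at h
    exact (Nat.pow_right_injective (Fact.out : p.Prime).two_le h).symm
  rw [← hm]
  refine le_trans ?_ (AlgEquiv.card_le (F := ZMod p) (K := K))
  rw [← Nat.card_eq_fintype_card]
  refine Nat.card_le_card_of_injective (fun e : RingAut K => AlgEquiv.ofRingEquiv (f := e) fun x =>
    DFunLike.congr_fun (RingHom.ext_zmod ((e : K →+* K).comp (algebraMap (ZMod p) K)) (algebraMap (ZMod p) K)) x)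
    fun e e' h => RingEquiv.ext fun x => DFunLike.congr_fun h x

theorem blocks_or_prim' {V : Type u} [AddCommGroup V] [Finite V] [Nontrivial V]
    (A : Subgroup (AddMonoid.End V)ˣ) (hsol : Group.IsSolvable A) (hirr : IsIrr A V) {p a : ℕ}
    [Fact p.Prime] (hV : Nat.card V = p ^ a) :
    (∃ D : Blocks A V, ∀ z ∈ Subgroup.center A, ∀ i, D.act.smul z i = i) ∨
      ∃ P : Prim A V p a, Subgroup.center A ≤ P.Z := by
  haveI : FaithfulSMul A V := ⟨fun {a b} h => Subtype.ext (Units.ext (AddMonoidHom.ext h))⟩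
  haveI : Finite A := Finite.of_injective _ Subtype.val_injective
  obtain ⟨Z, ⟨hZn, hZ⟩, hmax⟩ :=
    ({Y : Subgroup A | Y.Normal ∧ ∀ a ∈ Y, ∀ b ∈ Y, a * b = b * a}).toFinite.exists_maximal
      ⟨⊥, inferInstance, fun a ha b hb => by rw [Subgroup.mem_bot.mp ha, Subgroup.mem_bot.mp hb]⟩
  haveI := hZn
  rcases blocks_or_isField' hirr Z hZ with ⟨D, hD⟩ | hK
  · exact Or.inl ⟨D, fun z hz i => fixes_of_central D hD hz i⟩
  have hcenZ : Subgroup.center A ≤ Z := by
    intro z hz
    have hab : ∀ a ∈ (Subgroup.center A ⊔ Z : Subgroup A), ∀ b ∈ (Subgroup.center A ⊔ Z : Subgroup A),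
        a * b = b * a := by
      intro a ha b hb
      obtain ⟨a1, ha1, a2, ha2, rfl⟩ := Subgroup.mem_sup_of_normal_right.mp ha
      obtain ⟨b1, hb1, b2, hb2, rfl⟩ := Subgroup.mem_sup_of_normal_right.mp hb
      have c1 := fun g => Subgroup.mem_center_iff.mp ha1 g
      have c2 := fun g => Subgroup.mem_center_iff.mp hb1 g
      calc a1 * a2 * (b1 * b2) = a1 * (a2 * b1) * b2 := by group
        _ = (a1 * b1) * (a2 * b2) := by rw [c2 a2]; group
        _ = (b1 * a1) * (b2 * a2) := by rw [c1 b1, hZ a2 ha2 b2 hb2]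
        _ = b1 * (a1 * b2) * a2 := by group
        _ = b1 * b2 * (a1 * a2) := by rw [← c1 b2]; group
    exact hmax ⟨inferInstance, hab⟩ le_sup_right (Subgroup.mem_sup_left hz)
  right
  letI : Field (genRing Z) := hK.toField
  haveI : Finite (genRing Z) := Subtype.finite
  let σhom : A → RingAut (genRing Z) := fun a =>
    { toFun := fun r => ⟨toEnd A a * r * toEnd A a⁻¹, conj_mem_genRing a r r.2⟩
      invFun := fun r => ⟨toEnd A a⁻¹ * r * toEnd A a⁻¹⁻¹, conj_mem_genRing a⁻¹ r r.2⟩
      left_inv := fun r => Subtype.ext (by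
        show toEnd A a⁻¹ * (toEnd A a * r * toEnd A a⁻¹) * toEnd A a⁻¹⁻¹ = r
        simp only [← mul_assoc, ← map_mul, inv_mul_cancel, map_one, one_mul]
        rw [mul_assoc, ← map_mul, mul_inv_cancel, map_one, mul_one])
      right_inv := fun r => Subtype.ext (by
        show toEnd A a * (toEnd A a⁻¹ * r * toEnd A a⁻¹⁻¹) * toEnd A a⁻¹ = r
        simp only [← mul_assoc, ← map_mul, mul_inv_cancel, map_one, one_mul]
        rw [mul_assoc, ← map_mul, inv_mul_cancel, map_one, mul_one])
      map_mul' := fun r s => Subtype.ext (by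
        show toEnd A a * (r.1 * s.1) * toEnd A a⁻¹ = (toEnd A a * r.1 * toEnd A a⁻¹) * (toEnd A a * s.1 * toEnd A a⁻¹)
        calc toEnd A a * (r.1 * s.1) * toEnd A a⁻¹
            = toEnd A a * r.1 * (toEnd A a⁻¹ * toEnd A a) * s.1 * toEnd A a⁻¹ := by
              rw [← map_mul, inv_mul_cancel, map_one]; noncomm_ring
          _ = _ := by noncomm_ring)
      map_add' := fun r s => Subtype.ext (by
        show toEnd A a * (r.1 + s.1) * toEnd A a⁻¹ = toEnd A a * r.1 * toEnd A a⁻¹ + toEnd A a * s.1 * toEnd A a⁻¹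
        rw [mul_add, add_mul]) }
  let D : SemiData A V (genRing Z) Z :=
    { σ := MonoidHom.mk' σhom fun a b => RingEquiv.ext fun r => Subtype.ext (by
        show toEnd A (a * b) * r.1 * toEnd A (a * b)⁻¹ = toEnd A a * (toEnd A b * r.1 * toEnd A b⁻¹) * toEnd A a⁻¹
        rw [mul_inv_rev, map_mul, map_mul]
        noncomm_ring)
      semilinear := fun a k v => by
        show a • (k : AddMonoid.End V) v = toEnd A a ((k : AddMonoid.End V) (toEnd A a⁻¹ (a • v)))
        rw [toEnd_apply a⁻¹, inv_smul_smul]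
        rfl
      ι := ({ toFun := fun z => ⟨toEnd A z, toEnd_mem_genRing z.2⟩
              map_one' := Subtype.ext (map_one _)
              map_mul' := fun z w => Subtype.ext (map_mul _ _ _) } : Z →* genRing Z).toHomUnits
      scalar := fun z v => rfl
      ker_eq := by
        ext a
        rw [MonoidHom.mem_ker, Subgroup.mem_centralizer_iff]
        constructor
        · intro h z hz
          have e := congrArg Subtype.val (RingEquiv.congr_fun h (⟨toEnd A z, toEnd_mem_genRing hz⟩ : genRing Z))
          change toEnd A a * toEnd A z * toEnd A a⁻¹ = toEnd A z at e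
          rw [← map_mul, ← map_mul] at e
          have e' : a * z * a⁻¹ = z := Subtype.ext (Units.ext e)
          rw [mul_inv_eq_iff_eq_mul] at e'
          exact e'.symm
        · intro h
          refine RingEquiv.ext fun r => Subtype.ext ?_
          show toEnd A a * r.1 * toEnd A a⁻¹ = r.1
          rw [toEnd_commute_genRing (fun z hz => (h z hz).symm) r.1 r.2, mul_assoc, ← map_mul, mul_inv_cancel,
            map_one, mul_one] }
  obtain ⟨r, hr, hrV⟩ := BaseThree.exists_prime_nsmul_eq_zero hirr
  have hrp : r = p := by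
    haveI := Fact.mk hr
    obtain ⟨v, hv⟩ := exists_ne (0 : V)
    have h := addOrderOf_dvd_natCard v
    rw [addOrderOf_eq_prime (hrV v) hv, hV] at h
    exact (Nat.prime_dvd_prime_iff_eq hr Fact.out).mp (hr.dvd_of_dvd_pow h)
  haveI : CharP (genRing Z) p := by
    refine (CharP.charP_iff_prime_eq_zero Fact.out).mpr (Subtype.ext (AddMonoidHom.ext fun v => ?_))
    subst hrp
    rw [SubringClass.coe_natCast]
    exact hrV v
  obtain ⟨n, -, hn⟩ : ∃ n : ℕ+, Nat.Prime p ∧ Nat.card (genRing Z) = p ^ (n : ℕ) := by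
    letI := Fintype.ofFinite (genRing Z)
    obtain ⟨n, h1, h2⟩ := FiniteField.card (genRing Z) p
    exact ⟨n, h1, Nat.card_eq_fintype_card.trans h2⟩
  have hdim : a = n * Module.finrank (genRing Z) V := by
    have h := Module.natCard_eq_pow_finrank (K := genRing Z) (V := V)
    rw [hV, hn, ← pow_mul] at h
    exact Nat.pow_right_injective (Fact.out : p.Prime).two_le h
  have hZC : Z ≤ Subgroup.centralizer (Z : Set A) := fun z hz =>
    Subgroup.mem_centralizer_iff.mpr fun w hw => hZ w hw z hz
  refine ⟨{ K := genRing Z, fld := inferInstance, fin := inferInstance, mod := inferInstance, Z := Z,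
            normal := inferInstance, D := D, comm := hZ, m := n, d := _, dim := hdim, card_K := hn,
            finrank_eq := rfl, index_le := ?_, layer := ?_ }, hcenZ⟩
  · rw [← D.ker_eq, Subgroup.index_ker]
    haveI : Finite (RingAut (genRing Z)) :=
      Finite.of_injective (fun e : RingAut (genRing Z) => (e : genRing Z → genRing Z)) DFunLike.coe_injective
    exact (Subgroup.card_le_card_group _).trans (card_ringAut_le (genRing Z) hn)
  · rcases eq_or_lt_of_le hZC with h | hlt
    · exact Or.inl h
    right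
    haveI : (Subgroup.centralizer (Z : Set A)).Normal := by rw [← D.ker_eq]; infer_instance
    obtain ⟨M, hMn, hZM, hMC, hcomm, hcenM, hcenC, hcompl⟩ := exists_layer hsol Z
      (Subgroup.centralizer (Z : Set A)) hlt
      (fun z hz c hc => Subgroup.mem_centralizer_iff.mp hc z hz)
      (fun Y hYn hY hle => le_antisymm (hmax ⟨hYn, hY⟩ hle) hle)
    haveI := hMn
    exact nonempty_layerData D M hZM hMC hcomm hcenM hcenC hcompl

theorem blocks_or_prim {V : Type u} [AddCommGroup V] [Finite V] [Nontrivial V]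
    (A : Subgroup (AddMonoid.End V)ˣ) (hsol : Group.IsSolvable A) (hirr : IsIrr A V) {p a : ℕ}
    [Fact p.Prime] (hV : Nat.card V = p ^ a) : Nonempty (Blocks A V) ∨ Nonempty (Prim A V p a) :=
  (blocks_or_prim' A hsol hirr hV).imp (fun ⟨D, _⟩ => ⟨D⟩) fun ⟨P, _⟩ => ⟨P⟩

end Cfsg.Agent.SqClass
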